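import Cfsg.Agent.Mrg.Omega.NO3S.Fit.MTri.End
import Cfsg.Agent.SectRankFour.C2.Fin64
import Cfsg.Agent.SectRankFour.C2.FinAut
import Cfsg.Agent.Mrg.Omega.CaseL.Base

section


/-!
# The natural block, K-free: the contradiction

helper311 #13963, section 5. `NTri V U C`, `N_G(V) ∩ C_G(p)` a Sylow 2-subgroup of the simple group `G` of characteristic
2 type, the conjugates of `V` in `C_G(p)` commute. Then `C_G(p)` normalises `U_p`; an involution of `C_G(p)` commuting
with an element of order 3 of `C_G(p)` is `p` (`eq_of_comm`).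

* `|S| = 64`: all involutions are conjugate (`Fin64Pat.one_class`), some `c ∈ C_G(p)` takes `u` into `V`, so `u ∈ U_p`.
* `|S| = 128`: no involution of `E ∖ V`, `E = ⟨a², b², u, f⟩`, is conjugate to `p`; so `N_G(E) ≤ N_G(V)`, but the
  extremal transfer gives `g ∈ N_G(E)` which takes `f` into `⟨a, b, u⟩ ⊴ N_G(V)`.
-/

set_option autoImplicit false
set_option linter.unusedSectionVars false

namespace Cfsg.Agent.Omega.NO3S.Fit.MTri

open Subgroup Cfsg Cfsg.Agent.ZN Cfsg.Agent.MinSimple.Geo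
open Cfsg.Agent.Classification.TitsFin.Tri (Pt kst cj_kst K Q)
open Cfsg.Agent.SectRankFour.C2.Defs (Conf64 Conf128)
open Cfsg.Agent.ZN.Block (conj_mem_of_normalizer conj_mem_of_normalizer' le_normalizer_of_forall
  mem_normalizer_of card_sup_mul_card_inf card_mul_relIndex' mul_mem_of_relIndex_two o2_le o2_conj o2_isPGroup
  le_o2 le_normalizer_o2)

universe u

variable {G : Type u} [Group G]

namespace NTri

variable {V : Subgroup G} {U C : G → Subgroup G} (h : NTri V U C) {p : G}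

include h

/-- an involution of `C_p` commuting with a moving element lies in `Q_p` -/
theorem comm_mem_Q (hp : Pt V p) {X Y : G} (hX : X ∈ C p) (hm : Mov (U p) p X) (hY : Y ∈ C p)
    (hYY : Y * Y = 1) (hc : X * Y = Y * X) : Y ∈ Q U C p := by
  obtain ⟨q, hq, hpq⟩ := h.exists_other hp
  have hpp := h.pp hp
  have hcX := h.c_comm hp hX
  have hcY := h.c_comm hp hY
  have hqU : q ∈ U p := h.p_mem hq hp
  have hq1 := h.not_cg hq hpq
  have haU : X * q * X⁻¹ ∈ U p := h.conj_memU hp hX hqU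
  have ha1 : ¬ Cg p (X * q * X⁻¹) 1 := h.conj_notCg hp hX hq1
  have haq : ¬ Cg p (X * q * X⁻¹) q := hm q hqU hq1
  have hsw : ∀ w, Y * (X * w * X⁻¹) * Y⁻¹ = X * (Y * w * Y⁻¹) * X⁻¹ := fun w => by
    calc Y * (X * w * X⁻¹) * Y⁻¹ = (Y * X) * w * (Y * X)⁻¹ := by group
      _ = (X * Y) * w * (X * Y)⁻¹ := by rw [hc]
      _ = _ := by group
  have hYYw : ∀ w, Y * (Y * w * Y⁻¹) * Y⁻¹ = w := fun w => by
    calc Y * (Y * w * Y⁻¹) * Y⁻¹ = (Y * Y) * w * (Y * Y)⁻¹ := by group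
      _ = w := by rw [hYY]; group
  have hsq := h.mov_sq hp hX hm hqU hq1
  have hqq : q * q = 1 := h.sqU p hp q hqU
  have haa := h.sqU p hp _ haU
  have hcomm := h.commU hp hqU haU
  rcases h.four hp hqU hq1 haU ha1 haq (h.conj_memU hp hY hqU) with e | e | e | e
  · exact absurd e (h.conj_notCg hp hY hq1)
  · refine h.mem_Q_of_fix hp hY hqU hq1 haU ha1 haq e ?_
    rw [hsw]
    exact e.conj hcX
  · exfalso
    have e1 := e.conj hcY
    rw [hYYw, hsw] at e1
    have e2 := (e1.trans hpp (e.conj hcX)).trans hpp hsq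
    have e3 := (Cg.refl p q).mul hpp (h.commU hp (h.p_mem hp hp) hqU) e2
    rw [← mul_assoc, hqq, one_mul] at e3
    exact ha1 (e3.symm hpp)
  · exfalso
    have e1 := e.conj hcY
    rw [hYYw] at e1
    have e3 : Cg p (Y * (X * q * X⁻¹) * Y⁻¹) q := by
      rw [hsw]
      have e4 := (e.conj hcX).trans hpp (h.mul_conj hp haU (Cg.refl _ _) hsq)
      have e6 : X * q * X⁻¹ * (q * (X * q * X⁻¹)) = q := by rw [hcomm, ← mul_assoc, haa, one_mul]
      rwa [e6] at e4
    have e5 := e1.trans hpp (h.mul_conj hp (mul_mem hqU haU) e e3)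
    have e6 : q * (X * q * X⁻¹) * q = X * q * X⁻¹ := by rw [hcomm, mul_assoc, hqq, mul_one]
    rw [e6] at e5
    exact haq (e5.symm hpp)

/-- an element of `Q_p` commuting with a moving element centralises `U_p` -/
theorem comm_mem_K (hp : Pt V p) {X Y : G} (hX : X ∈ C p) (hm : Mov (U p) p X) (hY : Y ∈ Q U C p)
    (hc : X * Y = Y * X) : Y ∈ K U p := by
  have hpp := h.pp hp
  have hcX := h.c_comm hp hX
  obtain ⟨hYC, hYU⟩ := (h.mem_Q_iff hp).mp hY
  have hcY := h.c_comm hp hYC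
  have hsw : ∀ w, Y * (X * w * X⁻¹) * Y⁻¹ = X * (Y * w * Y⁻¹) * X⁻¹ := fun w => by
    calc Y * (X * w * X⁻¹) * Y⁻¹ = (Y * X) * w * (Y * X)⁻¹ := by group
      _ = (X * Y) * w * (X * Y)⁻¹ := by rw [hc]
      _ = _ := by group
  refine mem_centralizer_iff.mpr fun w hw => ?_
  rcases hYU w hw with e | e
  · exact (mul_inv_eq_iff_eq_mul.mp e).symm
  exfalso
  have hYp : Y * p * Y⁻¹ = p := by rw [hcY, mul_inv_cancel_right]
  have hw1 : ¬ Cg p w 1 := by
    rintro (e1 | e1)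
    · rw [e1] at e
      simp only [mul_one, mul_inv_cancel] at e
      exact hp.2 e.symm
    · rw [mul_one] at e1
      rw [e1, hYp, hpp] at e
      exact hp.2 e
  have hcp : ∀ y ∈ U p, p * y = y * p := fun y hy => h.commU hp (h.p_mem hp hp) hy
  have key : ∀ y, Y * y * Y⁻¹ = p * y → Y * (X * y * X⁻¹) * Y⁻¹ = p * (X * y * X⁻¹) := by
    intro y hy
    rw [hsw, hy]
    calc X * (p * y) * X⁻¹ = (X * p) * y * X⁻¹ := by group
      _ = p * (X * y * X⁻¹) := by rw [hcX]; group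
  have k1 := key w e
  have k2 := key _ k1
  have hs := h.mov_sq hp hX hm hw hw1
  have haU := h.conj_memU hp hX hw
  have k3 : Y * (w * (X * w * X⁻¹)) * Y⁻¹ = w * (X * w * X⁻¹) := by
    calc Y * (w * (X * w * X⁻¹)) * Y⁻¹ = (Y * w * Y⁻¹) * (Y * (X * w * X⁻¹) * Y⁻¹) := by group
      _ = (p * w) * (p * (X * w * X⁻¹)) := by rw [e, k1]
      _ = (p * (w * p)) * (X * w * X⁻¹) := by group
      _ = (p * p) * w * (X * w * X⁻¹) := by rw [← hcp w hw]; group
      _ = w * (X * w * X⁻¹) := by rw [hpp, one_mul]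
  have k4 : Y * (X * (X * w * X⁻¹) * X⁻¹) * Y⁻¹ = X * (X * w * X⁻¹) * X⁻¹ := by
    rcases hs with e1 | e1
    · rw [e1, k3]
    · rw [e1]
      calc Y * (p * (w * (X * w * X⁻¹))) * Y⁻¹ = (Y * p * Y⁻¹) * (Y * (w * (X * w * X⁻¹)) * Y⁻¹) := by group
        _ = p * (w * (X * w * X⁻¹)) := by rw [hYp, k3]
  rw [k4] at k2
  exact hp.2 (mul_eq_right.mp k2.symm)

/-- an involution of `C_p` commuting with a moving element is `p` -/
theorem eq_of_comm [Finite G] (hp : Pt V p) {X Y : G} (hX : X ∈ C p) (hm : Mov (U p) p X) (hY : Y ∈ C p)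
    (hYY : Y * Y = 1) (hY1 : Y ≠ 1) (hc : X * Y = Y * X) : Y = p := by
  have h1 := h.mem_U_of_K hp (h.comm_mem_K hp hX hm (h.comm_mem_Q hp hX hm hY hYY hc) hc) hYY
  by_cases h2 : Cg p Y 1
  · rcases h2 with e | e
    · exact absurd e hY1
    · rw [e, mul_one]
  · exfalso
    refine hm Y h1 h2 ?_
    rw [hc, mul_inv_cancel_right]
    exact Cg.refl _ _

/-- the same structure with `C_G(p)` for `C_p` -/
theorem full [Finite G] (hc : IsCharacteristicTwoType G) (hp : Pt V p)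
    (hfull : ∀ c ∈ centralizer ({p} : Set G), ∀ v ∈ V, ∀ w ∈ V, c * v * c⁻¹ * w = w * (c * v * c⁻¹)) :
    NTri V U (fun x => centralizer ({x} : Set G)) := by
  have hcj : ∀ (n x : G), cj n (centralizer ({x} : Set G)) = centralizer ({n * x * n⁻¹} : Set G) := by
    intro n x
    ext y
    rw [mem_cj, mem_centralizer_singleton_iff, mem_centralizer_singleton_iff]
    constructor
    · intro e
      calc y * (n * x * n⁻¹) = n * ((n⁻¹ * y * n) * x) * n⁻¹ := by group
        _ = n * (x * (n⁻¹ * y * n)) * n⁻¹ := by rw [e]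
        _ = n * x * n⁻¹ * y := by group
    · intro e
      calc n⁻¹ * y * n * x = n⁻¹ * (y * (n * x * n⁻¹)) * n := by group
        _ = n⁻¹ * (n * x * n⁻¹ * y) * n := by rw [e]
        _ = x * (n⁻¹ * y * n) := by group
  have hpU := h.centralizer_le_normU hp hfull
  exact
    { cardV := h.cardV
      sqV := h.sqV
      cardU := h.cardU
      sqU := h.sqU
      V_le := h.V_le
      C_le := fun _ _ => le_rfl
      C_norm := by
        intro p' hp'
        obtain ⟨q, hq, hpq⟩ := h.exists_other hp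
        obtain ⟨q', hq', hpq'⟩ := h.exists_other hp'
        obtain ⟨n, hn, e1, -⟩ := h.sym p q p' q' hp hq hpq hp' hq' hpq'
        refine le_normalizer_of_forall fun c hc u hu => ?_
        have e2 := h.conjU n hn p hp
        rw [e1] at e2
        rw [← e1, ← hcj, mem_cj] at hc
        rw [← e2, mem_cj] at hu ⊢
        have h1 := conj_mem_of_normalizer hpU hc hu
        have e3 : n⁻¹ * c * n * (n⁻¹ * u * n) * (n⁻¹ * c * n)⁻¹ = n⁻¹ * (c * u * c⁻¹) * n := by group
        rwa [e3] at h1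
      le_C := fun _ _ => inf_le_right
      sym := h.sym
      conjU := h.conjU
      conjC := fun n _ x _ => hcj n x
      three := by
        intro x hx
        obtain ⟨f, hf, hn, hfk⟩ := h.three x hx
        refine ⟨f, h.C_le x hx hf, hn, fun hk => hfk ?_⟩
        exact ⟨hf, hk.2.1, hk.2.2.1, hk.2.2.2⟩
      nc := h.nc
      nl := fun R hR hN hC => h.nl R hR hN fun x hx => (h.C_le x hx).trans (hC x hx)
      char2 := fun x hx => MinSimple.Basic.char2_centralizer hc (by rw [pow_two]; exact h.pp hx) hx.2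
      soc := h.soc }

end NTri

/-! ### `|S| = 64` -/

section C64

open Cfsg.Agent.ClassificationK.GTwoModel Cfsg.Agent.ClassificationK.GTwoModel.T Cfsg.Agent.MTwelveType.Base
open Cfsg.Agent.SectRankFour.C2.Fin64Core

theorem false64 [Finite G] (hs : IsSimpleGroup G) (hc : IsCharacteristicTwoType G) {V : Subgroup G}
    {U : G → Subgroup G} (h : NTri V U (fun x => centralizer ({x} : Set G))) {p : G} (hp : Pt V p)
    (Sy : Sylow 2 G) {P1 : Subgroup G} {A B u s x : G} (hconf : Conf64 (Sy : Subgroup G) P1 A B u s x)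
    (a1 : A ^ 2 ∈ V) (a3 : A ^ 2 * B ^ 2 = p) (a6 : u * (A * B) ∈ U p) : False := by
  obtain ⟨f, hinj, hrange, hfa, hfb, hfu, -⟩ := Cfsg.Agent.SectRankFour.C2.Fin64Iso.exists_hom hconf
  have ea : f (a' 2) = A ^ 2 := by
    rw [← hfa, ← map_pow]; exact congrArg f (by decide)
  have eb : f (b' 2) = B ^ 2 := by
    rw [← hfb, ← map_pow]; exact congrArg f (by decide)
  have ez : f (z 2) = p := by
    have e1 : (z 2 : T (2 * 2)) = a' 2 * b' 2 := by decide
    rw [e1, map_mul, ea, eb, a3]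
  have D : Cen Sy f := ⟨hinj, hrange, by
    rw [ez]
    exact MinSimple.Basic.char2_centralizer hc (by rw [pow_two]; exact h.pp hp) hp.2⟩
  obtain ⟨c, hcz, hct, -⟩ := Cfsg.Agent.SectRankFour.C2.Fin64One.exists_c
    (Cfsg.Agent.SectRankFour.C2.Fin64Pat.one_class hc hinj hrange) D
  rw [ez] at hcz
  rw [hfu, ea] at hct
  have hcC : c ∈ centralizer ({p} : Set G) := mem_centralizer_singleton_iff.mpr hcz
  have hu : u ∈ U p := by
    have h1 := conj_mem_of_normalizer' (h.C_norm p hp) hcC (h.V_le p hp a1)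
    have e : c⁻¹ * A ^ 2 * c = u := by rw [← hct]; group
    rwa [e] at h1
  have hAB : A * B ∈ U p := (mul_mem_cancel_left hu).mp a6
  have h2 := h.sqU p hp _ hAB
  have h3 : A * B * (A * B) = A ^ 2 * B ^ 2 := by
    have hab := hconf.ab
    rw [pow_two, pow_two]
    calc A * B * (A * B) = A * (B * A) * B := by group
      _ = A * (A * B) * B := by rw [← hab]
      _ = A * A * (B * B) := by group
  rw [h3, a3] at h2
  exact hp.2 h2

end C64

/-! ### `|S| = 128` -/

section C128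

open Cfsg.Agent.SectRankFour.C2.FinAut

/-- Claim A: no element of `⟨u, f⟩` is conjugate to `p` -/
theorem not_conj [Finite G] {V : Subgroup G}
    {U : G → Subgroup G} (h : NTri V U (fun x => centralizer ({x} : Set G))) {p : G} (hp : Pt V p)
    {S P1 : Subgroup G} {A B u f s x : G} (hconf : Conf128 S P1 A B u f s x) {d g : G}
    (hd : d = u ∨ d = f ∨ d = f * u) (hg : g * p * g⁻¹ = d) : False := by
  have huu : u * u = 1 := by rw [← pow_two, hconf.u2]
  have hff : f * f = 1 := by rw [← pow_two, hconf.f2]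
  have hcu : d * u = u * d := by
    rcases hd with rfl | rfl | rfl
    · rfl
    · exact hconf.fu
    · rw [← mul_assoc u, ← hconf.fu]
  have hcf : d * f = f * d := by
    rcases hd with rfl | rfl | rfl
    · exact hconf.fu.symm
    · rfl
    · rw [mul_assoc, ← hconf.fu]
  have hcx : d * x = x * d := by
    rcases hd with rfl | rfl | rfl
    · exact hconf.xu.symm
    · exact hconf.xf.symm
    · rw [mul_assoc, ← hconf.xu, ← mul_assoc, ← hconf.xf, mul_assoc]
  have hpd : p = g⁻¹ * d * g := by rw [← hg]; group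
  have tr : ∀ y : G, d * y = y * d → (g⁻¹ * y * g) ∈ centralizer ({p} : Set G) := by
    intro y hy
    rw [mem_centralizer_singleton_iff, hpd]
    calc g⁻¹ * y * g * (g⁻¹ * d * g) = g⁻¹ * (y * d) * g := by group
      _ = g⁻¹ * (d * y) * g := by rw [hy]
      _ = g⁻¹ * d * g * (g⁻¹ * y * g) := by group
  have hx1 : x ≠ 1 := by
    intro e
    have h1 := hconf.xa
    rw [e] at h1
    exact a_ne_b hconf (by simpa using h1)
  set X := g⁻¹ * x * g with hX
  have hX3 : X ^ 3 = 1 := by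
    have : X ^ 3 = g⁻¹ * x ^ 3 * g := by rw [hX]; simp only [pow_succ, pow_zero, one_mul]; group
    rw [this, hconf.x3]; group
  have hX1 : X ≠ 1 := by
    intro e
    apply hx1
    have : x = g * X * g⁻¹ := by rw [hX]; group
    rw [this, e]; group
  have hXo : orderOf X = 3 := orderOf_eq_prime hX3 hX1
  have hXC := tr x hcx
  have hmov : Mov (U p) p X := by
    refine h.mov_of_odd hp hXC (by rw [hXo]; decide) fun hQ => hX1 ?_
    obtain ⟨n, hn⟩ := h.isPGroup_Q hp ⟨X, hQ⟩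
    exact eq_one_of_odd (by rw [hXo]; decide) (congrArg Subtype.val hn : X ^ 2 ^ n = 1)
  have hone : ∀ y : G, y ≠ 1 → y * y = 1 → d * y = y * d → x * y = y * x → g⁻¹ * y * g = p := by
    intro y hy1 hyy hdy hxy
    refine h.eq_of_comm hp hXC hmov (tr y hdy) ?_ ?_ ?_
    · have e : g⁻¹ * y * g * (g⁻¹ * y * g) = g⁻¹ * (y * y) * g := by group
      rw [e, hyy]; group
    · intro e
      apply hy1
      have : y = g * (g⁻¹ * y * g) * g⁻¹ := by group
      rw [this, e]; group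
    · calc g⁻¹ * x * g * (g⁻¹ * y * g) = g⁻¹ * (x * y) * g := by group
        _ = g⁻¹ * (y * x) * g := by rw [hxy]
        _ = g⁻¹ * y * g * (g⁻¹ * x * g) := by group
  have hu1 : u ≠ 1 := by
    intro e
    have h1 : psi A B u f s 16 = psi A B u f s 0 := by rw [psi_u, psi_zero, e]
    exact absurd (psi_inj hconf (by norm_num) (by norm_num) h1) (by norm_num)
  have hf1 : f ≠ 1 := by
    intro e
    have h1 : psi A B u f s 32 = psi A B u f s 0 := by rw [psi_f, psi_zero, e]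
    exact absurd (psi_inj hconf (by norm_num) (by norm_num) h1) (by norm_num)
  have huf : u ≠ f := by
    intro e
    have h1 : psi A B u f s 16 = psi A B u f s 32 := by rw [psi_u, psi_f, e]
    exact absurd (psi_inj hconf (by norm_num) (by norm_num) h1) (by norm_num)
  have e1 := hone u hu1 huu hcu hconf.xu
  have e2 := hone f hf1 hff hcf hconf.xf
  apply huf
  have e3 : g⁻¹ * u * g = g⁻¹ * f * g := e1.trans e2.symm
  exact mul_left_cancel (mul_right_cancel e3)

set_option maxRecDepth 100000 in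
theorem modelE : ∀ m < 128, isE m = true →
    (m == 0 || m == 2 || m == 8 || m == mul 2 8 || (List.range 16).any fun k =>
      m == mul (mul k 16) (inv k) || m == mul (mul k 32) (inv k) || m == mul (mul k (mul 32 16)) (inv k)) = true := by
  decide +kernel

/-- Claim B: an element of `E` conjugate to `p` lies in `V` -/
theorem mem_V_of_conj [Finite G] {V : Subgroup G}
    {U : G → Subgroup G} (h : NTri V U (fun x => centralizer ({x} : Set G))) {p : G} (hp : Pt V p)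
    {S P1 : Subgroup G} {A B u f s x : G} (hconf : Conf128 S P1 A B u f s x) (a1 : A ^ 2 ∈ V)
    (a2 : B ^ 2 ∈ V) {d g : G} (hd : d ∈ subE hconf) (hg : g * p * g⁻¹ = d) : d ∈ V := by
  obtain ⟨m, hm, hm1, rfl⟩ := hd
  have h1 := modelE m hm hm1
  simp only [Bool.or_eq_true, beq_iff_eq, List.any_eq_true, List.mem_range] at h1
  have ea : psi A B u f s 2 = A ^ 2 := by simp [psi, phi, dec]
  have eb : psi A B u f s 8 = B ^ 2 := by simp [psi, phi, dec]
  rcases h1 with (((h1 | h1) | h1) | h1) | ⟨k, hk, h1⟩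
  · rw [h1, psi_zero]; exact one_mem _
  · rw [h1, ea]; exact a1
  · rw [h1, eb]; exact a2
  · rw [h1, psi_mul hconf, ea, eb]; exact mul_mem a1 a2
  · exfalso
    have hk' : k < 128 := by omega
    have key : ∀ y : G, psi A B u f s m = psi A B u f s k * y * (psi A B u f s k)⁻¹ →
        (y = u ∨ y = f ∨ y = f * u) → False := by
      intro y hy hy'
      refine not_conj h hp hconf hy' (g := (psi A B u f s k)⁻¹ * g) ?_
      calc (psi A B u f s k)⁻¹ * g * p * ((psi A B u f s k)⁻¹ * g)⁻¹ =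
            (psi A B u f s k)⁻¹ * (g * p * g⁻¹) * psi A B u f s k := by group
        _ = y := by rw [hg, hy]; group
    rcases h1 with (h1 | h1) | h1
    · refine key u ?_ (Or.inl rfl)
      rw [h1, psi_mul hconf, psi_mul hconf, psi_inv hconf hk', psi_u]
    · refine key f ?_ (Or.inr (Or.inl rfl))
      rw [h1, psi_mul hconf, psi_mul hconf, psi_inv hconf hk', psi_f]
    · refine key (f * u) ?_ (Or.inr (Or.inr rfl))
      rw [h1, psi_mul hconf, psi_mul hconf, psi_mul hconf, psi_inv hconf hk', psi_f, psi_u]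

/-- `⟨a, b, u⟩ ⊴ N_G(V)` -/
theorem le_normalizer_Wu {S P1 : Subgroup G} {A B u f s x : G} (hconf : Conf128 S P1 A B u f s x) :
    P1 ≤ normalizer (subWu hconf : Set G) := by
  have hA : A ∈ subWu hconf := ⟨1, by norm_num, by decide, psi_a _ _ _ _ _⟩
  have hB : B ∈ subWu hconf := ⟨4, by norm_num, by decide, psi_b _ _ _ _ _⟩
  have hu : u ∈ subWu hconf := ⟨16, by norm_num, by decide, psi_u _ _ _ _ _⟩
  have hgen : ∀ X : Subgroup G, A ∈ X → B ∈ X → u ∈ X → subWu hconf ≤ X := by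
    intro X h1 h2 h3
    rintro _ ⟨n, hn, hn1, rfl⟩
    simp only [isWu, Bool.and_eq_true, beq_iff_eq] at hn1
    have e3 : psi A B u f s n = A ^ (n % 4) * B ^ (n / 4 % 4) * u ^ (n / 16 % 2) := by
      simp only [psi, phi, dec, hn1.1, hn1.2, pow_zero, mul_one]
    rw [e3]
    exact mul_mem (mul_mem (pow_mem h1 _) (pow_mem h2 _)) (pow_mem h3 _)
  have key : ∀ g : G, g * A * g⁻¹ ∈ subWu hconf → g * B * g⁻¹ ∈ subWu hconf → g * u * g⁻¹ ∈ subWu hconf →
      ∀ w ∈ subWu hconf, g * w * g⁻¹ ∈ subWu hconf := by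
    intro g h1 h2 h3 w hw
    exact hgen ((subWu hconf).comap (MulAut.conj g).toMonoidHom) h1 h2 h3 hw
  -- the generators, all of finite order
  have hfin : Finite (subWu hconf) := by
    have : Nat.card (subWu hconf) ≠ 0 := by
      rw [subWu, card_sub]; decide +kernel
    exact Nat.finite_of_card_ne_zero this
  have hN : ∀ g : G, g * A * g⁻¹ ∈ subWu hconf → g * B * g⁻¹ ∈ subWu hconf → g * u * g⁻¹ ∈ subWu hconf →
      g ∈ normalizer (subWu hconf : Set G) := by
    intro g h1 h2 h3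
    have h4 : (subWu hconf).map (MulAut.conj g).toMonoidHom = subWu hconf := by
      refine eq_of_le_of_card_ge ?_ (le_of_eq (card_map_of_injective (MulAut.conj g).injective).symm)
      rintro _ ⟨w, hw, rfl⟩
      exact key g h1 h2 h3 w hw
    exact mem_normalizer_iff_map_conj_eq.mpr h4
  refine hconf.eqP.le.trans ?_
  rw [closure_le]
  have hab := hconf.ab
  rintro g (rfl | rfl | rfl | rfl | rfl | rfl)
  · exact hN _ (by group; simpa using hA) (mul_mem (mul_mem hA hB) (inv_mem hA))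
      (mul_mem (mul_mem hA hu) (inv_mem hA))
  · exact hN _ (mul_mem (mul_mem hB hA) (inv_mem hB)) (mul_mem (mul_mem hB hB) (inv_mem hB))
      (mul_mem (mul_mem hB hu) (inv_mem hB))
  · exact hN _ (mul_mem (mul_mem hu hA) (inv_mem hu)) (mul_mem (mul_mem hu hB) (inv_mem hu))
      (mul_mem (mul_mem hu hu) (inv_mem hu))
  · refine hN _ ?_ ?_ ?_
    · rw [hconf.fa]; exact mul_mem hA (pow_mem hB _)
    · rw [hconf.fb]; exact mul_mem (pow_mem hA _) (inv_mem hB)
    · rw [hconf.fu, mul_inv_cancel_right]; exact hu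
  · refine hN _ ?_ ?_ ?_
    · rw [hconf.sa]; exact hB
    · rw [hconf.sb]; exact hA
    · rw [hconf.su, mul_inv_cancel_right]; exact hu
  · refine hN _ ?_ ?_ ?_
    · rw [hconf.xa]; exact hB
    · rw [hconf.xb]; exact mul_mem (inv_mem hA) (inv_mem hB)
    · rw [hconf.xu, mul_inv_cancel_right]; exact hu

theorem false128 [Finite G] (hs : IsSimpleGroup G) {V : Subgroup G}
    {U : G → Subgroup G} (h : NTri V U (fun x => centralizer ({x} : Set G))) {p : G} (hp : Pt V p)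
    (T : Sylow 2 G) {A B u f s x : G} (hconf : Conf128 (T : Subgroup G) (normalizer (V : Set G)) A B u f s x)
    (a1 : A ^ 2 ∈ V) (a2 : B ^ 2 ∈ V) (a3 : A ^ 2 * B ^ 2 = p) (a4 : A ^ 2 ≠ 1) (a5 : B ^ 2 ≠ 1) : False := by
  have hf2 : Fact (Nat.Prime 2) := ⟨Nat.prime_two⟩
  have hfp : ∀ φ : G →* ℤˣ, φ f = 1 := by
    intro φ
    rcases (MonoidHom.normal_ker φ).eq_bot_or_eq_top with h1 | h1
    · exfalso
      have h2 : Nat.card G ≤ Nat.card ℤˣ :=
        Nat.card_le_card_of_injective φ ((MonoidHom.ker_eq_bot_iff φ).mp h1)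
      have h3 : Nat.card ℤˣ = 2 := by rw [Nat.card_eq_fintype_card]; rfl
      have h4 : Nat.card (T : Subgroup G) ≤ Nat.card G := card_le_card_group _
      rw [hconf.card] at h4
      omega
    · have h2 : f ∈ φ.ker := by rw [h1]; exact mem_top f
      exact h2
  set E := subE hconf with hE
  have hEp : IsPGroup 2 E := IsPGroup.of_card (n := 4) (by rw [hE, card_E hconf]; norm_num)
  obtain ⟨g, hg1, hg2⟩ := SylowSp4.ExtTransfer.exists_extremal T (subM hconf) (M_le hconf)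
    (relIndex_M hconf) f (by rw [← pow_two]; exact hconf.f2) hfp E hEp
    (fun r hr => E_comm hconf r hr f (f_mem_E hconf))
  have hgE : E.map (MulAut.conj g).toMonoidHom = E := by
    refine eq_E hconf ?_ ?_ ?_ ?_
    · rintro _ ⟨e, he, rfl⟩
      exact hg2 e he
    · rintro _ ⟨e, he, rfl⟩ _ ⟨e', he', rfl⟩
      rw [← map_mul, ← map_mul, E_comm hconf e he e' he']
    · rintro _ ⟨e, he, rfl⟩
      rw [← map_mul, E_sq hconf e he, map_one]
    · rw [card_map_of_injective (MulAut.conj g).injective, hE, card_E hconf]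
  have hgN : g ∈ normalizer (E : Set G) := mem_normalizer_iff_map_conj_eq.mpr hgE
  -- `g ∈ N_G(V)`
  have hq : Pt V (A ^ 2) := ⟨a1, a4⟩
  have hpq : p ≠ A ^ 2 := by
    intro e
    rw [← a3] at e
    exact a5 (mul_eq_left.mp e)
  have hVE : V ≤ E := by
    intro v hv
    have hpE : p ∈ E := by rw [← a3]; exact mul_mem (aa_mem hconf) (bb_mem hconf)
    rcases h.mem_V hp hq hpq hv with e | e | e | e
    · rw [e]; exact one_mem _
    · rw [e]; exact hpE
    · rw [e]; exact aa_mem hconf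
    · rw [e]; exact mul_mem hpE (aa_mem hconf)
  have hgV : V.map (MulAut.conj g).toMonoidHom = V := by
    have hVf : Finite V := inferInstance
    refine eq_of_le_of_card_ge ?_ (le_of_eq (card_map_of_injective (MulAut.conj g).injective).symm)
    rintro _ ⟨v, hv, rfl⟩
    change g * v * g⁻¹ ∈ V
    by_cases hv1 : v = 1
    · rw [hv1, mul_one, mul_inv_cancel]; exact one_mem _
    obtain ⟨q', hq', hpq'⟩ := h.exists_other (⟨hv, hv1⟩ : Pt V v)
    obtain ⟨n, -, e1, -⟩ := h.sym p (A ^ 2) v q' hp hq hpq ⟨hv, hv1⟩ hq' hpq'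
    refine mem_V_of_conj h hp hconf a1 a2 (g := g * n) (conj_mem_of_normalizer le_rfl hgN (hVE hv)) ?_
    rw [← e1]; group
  have hgNV : g ∈ normalizer (V : Set G) := mem_normalizer_iff_map_conj_eq.mpr hgV
  have h1 : g * f * g⁻¹ ∈ subWu hconf := invQ_le hconf (inf_le_invQ hconf
    ⟨conj_mem_of_normalizer le_rfl hgN (f_mem_E hconf), hg1⟩)
  have h2 := conj_mem_of_normalizer' (le_normalizer_Wu hconf) hgNV h1
  have e : g⁻¹ * (g * f * g⁻¹) * g = f := by group
  rw [e] at h2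
  exact f_notMem_Wu hconf h2

end C128

/-- **The natural block does not occur, K-free** (helper311 #13963, section 5). -/
theorem NTri.false_of_simple [Finite G] (hs : IsSimpleGroup G) (hc : IsCharacteristicTwoType G)
    {V : Subgroup G} {U C : G → Subgroup G} (h : NTri V U C) {p : G} (hp : Pt V p) (T : Sylow 2 G)
    (hT : (T : Subgroup G) = normalizer (V : Set G) ⊓ centralizer ({p} : Set G))
    (hfull : ∀ c ∈ centralizer ({p} : Set G), ∀ v ∈ V, ∀ w ∈ V, c * v * c⁻¹ * w = w * (c * v * c⁻¹)) :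
    False := by
  have h' := h.full hc hp hfull
  rcases h.exists_conf hp with ⟨A, B, u, s, x, hconf, a1, a2, a3, a4, a5, a6⟩ |
    ⟨A, B, u, f, s, x, hconf, a1, a2, a3, a4, a5, a6⟩
  · rw [← hT] at hconf
    exact false64 hs hc h' hp T hconf a1 a3 a6
  · rw [← hT] at hconf
    exact false128 hs h' hp T hconf a1 a2 a3 a4 a5

end Cfsg.Agent.Omega.NO3S.Fit.MTri

end

section


/-!
# NO-3S, `q = 2`, `n = 1` (helper311's text #13963), section 5: `|W_z| = 8` (M12 types) is impossible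

`Fam.ntri` : a family with `|W_z| = 8` is a structure `MTri.NTri V (ww V cf) cf`; `Fam.false_of_card_eight` : `False`, if `G`
is simple and the conjugates of `V` in `C_G(z)` commute.
-/

set_option autoImplicit false
set_option linter.unusedSectionVars false

namespace Cfsg.Agent.Omega.NO3S.Fit

open Subgroup Cfsg Cfsg.Agent.ZN Cfsg.Agent.MinSimple.Geo Cfsg.Agent.Omega.CaseL
open Cfsg.Agent.ZN.Block (conj_mem_of_normalizer conj_mem_of_normalizer' le_normalizer_of_forall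
  mem_normalizer_of card_mul_relIndex' mul_mem_of_relIndex_two)
open Cfsg.Agent.Classification.TitsFin.Tri (Pt kst)

universe u

variable {G : Type u} [Group G]

namespace Fam

variable {T V : Subgroup G} {z : G} {cf : G → Subgroup G}

section MT

variable [Finite G] (h : Fam T V z cf)

include h

theorem card_ww {p : G} (hp : p ∈ V) (hp1 : p ≠ 1) : Nat.card (ww V cf p) = Nat.card (ww V cf z) := by
  obtain ⟨g, hg, rfl⟩ := h.ln.trans p hp hp1
  rw [← h.cj_ww hg h.ln.z_mem h.ln.z_ne, card_cj]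

/-- `cf z` has characteristic 2 -/
theorem char2_cf : cf z ⊓ centralizer (o2 (cf z) : Set G) ≤ o2 (cf z) := by
  have hz2 : z ^ 2 = 1 := by rw [pow_two]; exact h.ln.zz
  have hc := MinSimple.Basic.char2_centralizer h.ln.charTwo hz2 h.ln.z_ne
  have h1 : o2 (centralizer ({z} : Set G)) ≤ cf z := h.ln.o2_le_T.trans h.T_le_cf
  have hle : cf z ≤ centralizer ({z} : Set G) := h.le z h.ln.z_mem h.ln.z_ne
  have h2 : o2 (centralizer ({z} : Set G)) ≤ o2 (cf z) :=
    Block.le_o2 (Block.o2_isPGroup _) h1 (hle.trans (Block.le_normalizer_o2 _))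
  rintro c ⟨hc1, hc2⟩
  refine h2 (hc ⟨hle hc1, ?_⟩)
  exact centralizer_le h2 hc2

/-- every normal 2-subgroup `≠ 1` of `N_G(V) ∩ C_G(z)` contains `z` -/
theorem soc_z {X : Subgroup G} (_ : X ≤ normalizer (V : Set G) ⊓ centralizer ({z} : Set G)) (hp : IsPGroup 2 X)
    (hX1 : X ≠ ⊥) (hn : normalizer (V : Set G) ⊓ centralizer ({z} : Set G) ≤ normalizer (X : Set G)) : z ∈ X := by
  have h1 : T ≤ normalizer (X : Set G) := fun t ht => hn ⟨h.ln.T_norm ht, h.ln.T_le ht⟩
  exact h.ln.z_mem_of_le (h.le_T hp h1) h1 hX1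

end MT

section three

variable [Finite G] (h : Fam T V z cf)

include h

theorem exists_notMem_V (h8 : Nat.card (ww V cf z) = 8) {p : G} (hp : p ∈ V) (hp1 : p ≠ 1) :
    V.relIndex (ww V cf p) = 2 := by
  have h1 := card_mul_relIndex' (h.V_le (p := p))
  rw [h.ln.card_V, h.card_ww hp hp1, h8] at h1
  omega

/-- `I = V` -/
theorem jj_eq (h8 : Nat.card (ww V cf z) = 8) : jj V cf ≤ V := by
  have hz := h.ln.z_mem
  have hz1 := h.ln.z_ne
  intro u hu
  by_contra huV
  obtain ⟨y, hy, hy1, hyz⟩ := h.ln.exists_y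
  obtain ⟨a, ha, b, hb, hab⟩ := h.nc' hz hz1 hy hy1 hyz
  apply hab
  -- `a ∈ W_y`
  have hle : ww V cf z ≤ ww V cf y := by
    intro a ha
    by_cases haV : a ∈ V
    · exact h.V_le haV
    have h1 := mul_mem_of_relIndex_two (h.exists_notMem_V h8 hz hz1) ha (jj_le hz hz1 hu) haV huV
    have e : a = (a * u) * u⁻¹ := by group
    rw [e]
    exact mul_mem (h.V_le h1) (inv_mem (jj_le hy hy1 hu))
  exact h.comm hy hy1 a (hle ha) b hb

/-- the commutators -/
theorem comm_const (h8 : Nat.card (ww V cf z) = 8) {p q : G} (hp : p ∈ V) (hp1 : p ≠ 1) (hq : q ∈ V) (hq1 : q ≠ 1)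
    (hqp : q ≠ p) : ∃ v ∈ V, v ≠ 1 ∧ ∀ a ∈ ww V cf p, a ∉ V → ∀ b ∈ ww V cf q, b ∉ V →
      a * b * a⁻¹ * b⁻¹ = v := by
  obtain ⟨a, ha, b, hb, hab⟩ := h.nc' hp hp1 hq hq1 hqp
  have hcV : ∀ x ∈ ww V cf p, ∀ v ∈ V, v * x = x * v := fun x hx v hv => h.V_comm hv (h.ww_le_cent hp hp1 hx)
  have hcV' : ∀ x ∈ ww V cf q, ∀ v ∈ V, v * x = x * v := fun x hx v hv => h.V_comm hv (h.ww_le_cent hq hq1 hx)
  have haV : a ∉ V := fun haV => hab (hcV' b hb a haV)
  have hbV : b ∉ V := fun hbV => hab (hcV a ha b hbV).symm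
  have hv : a * b * a⁻¹ * b⁻¹ ∈ V := h.jj_eq h8 (h.comm_mem_jj hp hp1 hq hq1 hqp ha hb)
  refine ⟨a * b * a⁻¹ * b⁻¹, hv, fun e => hab ?_, ?_⟩
  · have : a * b = (a * b * a⁻¹ * b⁻¹) * (b * a) := by group
    rw [this, e, one_mul]
  intro a' ha' haV' b' hb' hbV'
  have h1 := mul_mem_of_relIndex_two (h.exists_notMem_V h8 hp hp1) ha' ha haV' haV
  have h2 := mul_mem_of_relIndex_two (h.exists_notMem_V h8 hq hq1) hb' hb hbV' hbV
  have hai := h.inv_ww hp hp1 ha
  have hbi := h.inv_ww hq hq1 hb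
  set v := a' * a with hv1
  set w := b' * b with hw1
  have ea : a' = v * a := by
    calc a' = a' * a * a⁻¹ := by group
      _ = v * a := by rw [hai]
  have eb : b' = w * b := by
    calc b' = b' * b * b⁻¹ := by group
      _ = w * b := by rw [hbi]
  have c1 := hcV a ha w h2
  have c2 := hcV' b hb v h1
  have c3 := hcV' b hb w h2
  have c4 := hcV a ha v h1
  have c5 := h.ln.comm h1 h2
  rw [ea, eb]
  calc v * a * (w * b) * (v * a)⁻¹ * (w * b)⁻¹ = v * (a * w) * b * a⁻¹ * (v⁻¹ * b⁻¹) * w⁻¹ := by group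
    _ = v * (w * a) * b * a⁻¹ * (b * v)⁻¹ * w⁻¹ := by rw [← c1]; group
    _ = v * w * (a * b * a⁻¹ * b⁻¹) * v⁻¹ * w⁻¹ := by rw [← c2]; group
    _ = (a * b * a⁻¹ * b⁻¹) * (v * w) * v⁻¹ * w⁻¹ := by rw [h.ln.comm (mul_mem h1 h2) hv]
    _ = (a * b * a⁻¹ * b⁻¹) * (w * v) * v⁻¹ * w⁻¹ := by rw [c5]
    _ = a * b * a⁻¹ * b⁻¹ := by group

/-- (A1): `[W_z ∖ V, W_y ∖ V] = z y` -/
theorem comm_eq8 (h8 : Nat.card (ww V cf z) = 8) {p q : G} (hp : p ∈ V) (hp1 : p ≠ 1) (hq : q ∈ V) (hq1 : q ≠ 1)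
    (hqp : q ≠ p) {a b : G} (ha : a ∈ ww V cf p) (haV : a ∉ V) (hb : b ∈ ww V cf q) (hbV : b ∉ V) :
    a * b * a⁻¹ * b⁻¹ = p * q := by
  obtain ⟨v, hv, hv1, hall⟩ := h.comm_const h8 hp hp1 hq hq1 hqp
  rw [hall a ha haV b hb hbV]
  obtain ⟨g, hg, g1, g2⟩ := h.trans2 hp hp1 hq hq1 hqp hq hq1 hp hp1 (Ne.symm hqp)
  have hgV : ∀ x, x ∉ V → g * x * g⁻¹ ∉ V := by
    intro x hx e
    apply hx
    have := h.conj_pt' hg e
    have e' : g⁻¹ * (g * x * g⁻¹) * g = x := by group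
    rwa [e'] at this
  have h1 := h.conj_ww hg hp hp1 ha
  have h2 := h.conj_ww hg hq hq1 hb
  rw [g1] at h1
  rw [g2] at h2
  have h3 := hall _ h2 (hgV b hbV) _ h1 (hgV a haV)
  have h4 : g * v * g⁻¹ = v := by
    have h5 : g * v * g⁻¹ = v⁻¹ := by
      calc g * v * g⁻¹ = g * (a * b * a⁻¹ * b⁻¹) * g⁻¹ := by rw [hall a ha haV b hb hbV]
        _ = (g * b * g⁻¹ * (g * a * g⁻¹) * (g * b * g⁻¹)⁻¹ * (g * a * g⁻¹)⁻¹)⁻¹ := by group
        _ = v⁻¹ := by rw [h3]
    rw [h5, h.ln.inv_eq hv]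
  rcases h.ln.four hp hq hp1 hq1 (Ne.symm hqp) hv with e | e | e | e
  · exact absurd e hv1
  · rw [e, g1] at h4; exact absurd h4 hqp
  · rw [e, g2] at h4; exact absurd h4.symm hqp
  · exact e

theorem three_z (h8 : Nat.card (ww V cf z) = 8) :
    ∃ f ∈ cf z, (∃ n : ℕ, f ^ 3 ^ n = 1) ∧ f ∉ kst (cf z) (ww V cf z) z := by
  have hz := h.ln.z_mem
  have hz1 := h.ln.z_ne
  obtain ⟨y, hy, hy1, hyz⟩ := h.ln.exists_y
  -- some `c` moves `V`
  obtain ⟨c, hc, hcV⟩ : ∃ c ∈ cf z, c * y * c⁻¹ ∉ V := by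
    by_contra hcon
    push Not at hcon
    have hle : ww V cf z ≤ V := by
      refine wf_le fun c hc x hx => ?_
      rw [mem_cj] at hx
      have hcz : c * z * c⁻¹ = z := by rw [h.cf_comm hz hz1 hc, mul_inv_cancel_right]
      have e : x = c * (c⁻¹ * x * c) * c⁻¹ := by group
      rw [e]
      rcases h.ln.four hz hy hz1 hy1 (Ne.symm hyz) hx with e1 | e1 | e1 | e1
      · rw [e1]; simp
      · rw [e1, hcz]; exact hz
      · rw [e1]; exact hcon c hc
      · rw [e1]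
        have : c * (z * y) * c⁻¹ = (c * z * c⁻¹) * (c * y * c⁻¹) := by group
        rw [this, hcz]
        exact mul_mem hz (hcon c hc)
    have h1 := card_le_of_le hle
    rw [h8, h.ln.card_V] at h1
    omega
  have hcz := h.cf_comm hz hz1 hc
  have hczc : c * z * c⁻¹ = z := by rw [hcz, mul_inv_cancel_right]
  have hczc' : c⁻¹ * z * c = z := by rw [mul_assoc, ← hcz, inv_mul_cancel_left]
  have hyW : y ∈ ww V cf z := h.V_le hy
  set w0 := c * y * c⁻¹ with hw0
  have hw0W : w0 ∈ ww V cf z := conj_mem_wf hc hyW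
  set w1 := c⁻¹ * y * c with hw1
  have hw1W : w1 ∈ ww V cf z := by
    have := conj_mem_wf (inv_mem hc) hyW
    rwa [inv_inv] at this
  have hw1V : w1 ∉ V := by
    intro e
    -- `y = c w1 c⁻¹`
    have e1 : y = c * w1 * c⁻¹ := by rw [hw1]; group
    rcases h.ln.four hz hy hz1 hy1 (Ne.symm hyz) e with e2 | e2 | e2 | e2
    · rw [e2] at e1; simp at e1; exact hy1 e1
    · rw [e2, hczc] at e1; exact hyz e1
    · apply hcV
      rw [e2] at e1
      rw [hw0, ← e1]; exact hy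
    · apply hcV
      rw [e2] at e1
      have e3 : c * (z * y) * c⁻¹ = z * w0 := by
        calc c * (z * y) * c⁻¹ = (c * z * c⁻¹) * (c * y * c⁻¹) := by group
          _ = z * w0 := by rw [hczc]
      rw [e3] at e1
      have e4 : w0 = z⁻¹ * y := by rw [e1]; group
      rw [e4]; exact mul_mem (inv_mem hz) hy
  -- `b ∈ W_y ∖ V`
  obtain ⟨b, hb, hbV⟩ : ∃ b ∈ ww V cf y, b ∉ V := by
    by_contra hcon
    push Not at hcon
    have h1 := card_le_of_le (show ww V cf y ≤ V from hcon)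
    rw [h.card_ww hy hy1, h8, h.ln.card_V] at h1
    omega
  have hbz : b ∈ cf z := h.ww_le_cf' hy hy1 hz hz1 hb
  have hbc := h.ww_le_cent hy hy1 hb
  have hbV' : ∀ v ∈ V, b * v * b⁻¹ = v := fun v hv => by
    rw [← h.V_comm hv hbc, mul_inv_cancel_right]
  have hbw : ∀ w ∈ ww V cf z, w ∉ V → b * w * b⁻¹ = (z * y) * w := by
    intro w hw hwV
    have h1 := h.comm_eq8 h8 hz hz1 hy hy1 hyz hw hwV hb hbV
    have hvi : (z * y)⁻¹ = z * y := h.ln.inv_eq (mul_mem hz hy)
    calc b * w * b⁻¹ = (w * b * w⁻¹ * b⁻¹)⁻¹ * w := by group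
      _ = (z * y) * w := by rw [h1, hvi]
  have hcom := h.comm hz hz1
  have hsq := h.sqz
  have hyy := hsq y hyW
  have hzW : z ∈ ww V cf z := h.V_le hz
  have hzz := h.ln.zz
  -- `b' = c b c⁻¹`
  have k1 : ∀ x : G, c * b * c⁻¹ * x * (c * b * c⁻¹)⁻¹ = c * (b * (c⁻¹ * x * c) * b⁻¹) * c⁻¹ := fun x => by group
  have b1 : c * b * c⁻¹ * y * (c * b * c⁻¹)⁻¹ = z * w0 * y := by
    rw [k1, ← hw1, hbw w1 hw1W hw1V]
    calc c * (z * y * w1) * c⁻¹ = (c * z * c⁻¹) * (c * y * c⁻¹) * (c * w1 * c⁻¹) := by group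
      _ = z * w0 * y := by rw [hczc, ← hw0, hw1]; group
  have b2 : c * b * c⁻¹ * w0 * (c * b * c⁻¹)⁻¹ = w0 := by
    rw [k1]
    have e : c⁻¹ * w0 * c = y := by rw [hw0]; group
    rw [e, hbV' y hy]
  have b3 : c * b * c⁻¹ * z * (c * b * c⁻¹)⁻¹ = z := by
    rw [k1, hczc', hbV' z hz, hczc]
  set f0 := b * (c * b * c⁻¹) with hf0
  have hf0C : f0 ∈ cf z := mul_mem hbz (mul_mem (mul_mem hc hbz) (inv_mem hc))
  have k2 : ∀ x : G, f0 * x * f0⁻¹ = b * (c * b * c⁻¹ * x * (c * b * c⁻¹)⁻¹) * b⁻¹ := fun x => by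
    rw [hf0]; group
  have f1 : f0 * y * f0⁻¹ = w0 := by
    rw [k2, b1]
    calc b * (z * w0 * y) * b⁻¹ = (b * z * b⁻¹) * (b * w0 * b⁻¹) * (b * y * b⁻¹) := by group
      _ = z * (z * y * w0) * y := by rw [hbV' z hz, hbV' y hy, hbw w0 hw0W hcV]
      _ = (z * z) * (y * w0) * y := by group
      _ = (w0 * y) * y := by rw [hzz, one_mul, hcom y hyW w0 hw0W]
      _ = w0 := by rw [mul_assoc, hyy, mul_one]
  have f2 : f0 * w0 * f0⁻¹ = z * y * w0 := by rw [k2, b2, hbw w0 hw0W hcV]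
  have f3 : f0 * z * f0⁻¹ = z := by rw [k2, b3, hbV' z hz]
  have hw00 := hsq w0 hw0W
  have f4 : f0 * (z * y * w0) * f0⁻¹ = y := by
    calc f0 * (z * y * w0) * f0⁻¹ = (f0 * z * f0⁻¹) * (f0 * y * f0⁻¹) * (f0 * w0 * f0⁻¹) := by group
      _ = z * w0 * (z * y * w0) := by rw [f1, f2, f3]
      _ = z * (w0 * z) * y * w0 := by group
      _ = z * (z * w0) * y * w0 := by rw [hcom w0 hw0W z hzW]
      _ = (z * z) * (w0 * y) * w0 := by group
      _ = (y * w0) * w0 := by rw [hzz, one_mul, hcom w0 hw0W y hyW]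
      _ = y := by rw [mul_assoc, hw00, mul_one]
  have k3 : ∀ x : G, f0 ^ 3 * x * (f0 ^ 3)⁻¹ = f0 * (f0 * (f0 * x * f0⁻¹) * f0⁻¹) * f0⁻¹ := fun x => by
    rw [pow_succ, pow_two]; group
  -- `f0³` centralises `W_z`
  have hcub : ∀ w ∈ ww V cf z, f0 ^ 3 * w * (f0 ^ 3)⁻¹ = w := by
    have g1 : f0 ^ 3 * y * (f0 ^ 3)⁻¹ = y := by rw [k3, f1, f2, f4]
    have g2 : f0 ^ 3 * w0 * (f0 ^ 3)⁻¹ = w0 := by rw [k3, f2, f4, f1]
    have g3 : f0 ^ 3 * z * (f0 ^ 3)⁻¹ = z := by rw [k3, f3, f3, f3]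
    have g4 : ∀ v ∈ V, f0 ^ 3 * v * (f0 ^ 3)⁻¹ = v := by
      intro v hv
      rcases h.ln.four hz hy hz1 hy1 (Ne.symm hyz) hv with e | e | e | e
      · rw [e]; group
      · rw [e, g3]
      · rw [e, g1]
      · rw [e]
        calc f0 ^ 3 * (z * y) * (f0 ^ 3)⁻¹ = (f0 ^ 3 * z * (f0 ^ 3)⁻¹) * (f0 ^ 3 * y * (f0 ^ 3)⁻¹) := by group
          _ = z * y := by rw [g3, g1]
    intro w hw
    by_cases hwV : w ∈ V
    · exact g4 w hwV
    have h1 := mul_mem_of_relIndex_two (h.exists_notMem_V h8 hz hz1) hw hw0W hwV hcV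
    have e : w = (w * w0) * w0 := by rw [mul_assoc, hw00, mul_one]
    calc f0 ^ 3 * w * (f0 ^ 3)⁻¹ = f0 ^ 3 * ((w * w0) * w0) * (f0 ^ 3)⁻¹ := by rw [← e]
      _ = (f0 ^ 3 * (w * w0) * (f0 ^ 3)⁻¹) * (f0 ^ 3 * w0 * (f0 ^ 3)⁻¹) := by group
      _ = w := by rw [g4 _ h1, g2, ← e]
  have hcubK : f0 ^ 3 ∈ kst (cf z) (ww V cf z) z := by
    refine ⟨pow_mem hf0C 3, h.cf_comm hz hz1 (pow_mem hf0C 3), fun w hw => ?_, fun w hw => ?_⟩
    · rw [hcub w hw, mul_inv_cancel]; exact one_mem _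
    · have h1 := hcub w hw
      have e : (f0 ^ 3)⁻¹ * w * f0 ^ 3 = w := by
        calc (f0 ^ 3)⁻¹ * w * f0 ^ 3 = (f0 ^ 3)⁻¹ * (f0 ^ 3 * w * (f0 ^ 3)⁻¹) * f0 ^ 3 := by rw [h1]
          _ = w := by group
      rw [e, mul_inv_cancel]; exact one_mem _
  have hf0K : f0 ∉ kst (cf z) (ww V cf z) z := by
    intro hK
    have h1 := hK.2.2.1 y hyW
    rw [f1] at h1
    apply hcV
    have e : w0 = (w0 * y⁻¹) * y := by group
    rw [e]
    refine mul_mem ?_ hy
    have : zpowers z ≤ V := by rw [zpowers_le]; exact hz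
    exact this h1
  -- the 3-part
  have hpos : orderOf f0 ≠ 0 := (orderOf_pos f0).ne'
  obtain ⟨k, m, hm, hkm⟩ := Nat.exists_eq_pow_mul_and_not_dvd hpos 3 (by norm_num)
  refine ⟨f0 ^ m, pow_mem hf0C m, ⟨k, ?_⟩, fun hK => hf0K ?_⟩
  · rw [← pow_mul, mul_comm, ← hkm, pow_orderOf_eq_one]
  · have hcop : Nat.Coprime 3 m := (Nat.Prime.coprime_iff_not_dvd (by norm_num)).mpr hm
    have hb := Nat.gcd_eq_gcd_ab 3 m
    rw [hcop.gcd_eq_one] at hb
    have e : f0 = (f0 ^ 3) ^ (Nat.gcdA 3 m) * (f0 ^ m) ^ (Nat.gcdB 3 m) := by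
      have h1 : f0 ^ ((1 : ℕ) : ℤ) = f0 := by simp
      conv_lhs => rw [← h1, hb, zpow_add, zpow_mul, zpow_mul]
      simp [zpow_natCast]
    rw [e]
    exact mul_mem (zpow_mem hcubK _) (zpow_mem hK _)

/-- `|W_z| = 8`: the structure `NTri` -/
theorem ntri (h8 : Nat.card (ww V cf z) = 8) : MTri.NTri V (ww V cf) cf where
  cardV := h.ln.card_V
  sqV := h.ln.sq
  cardU := fun p hp => by rw [h.card_ww hp.1 hp.2, h8]
  sqU := fun p hp => h.sq hp.1 hp.2
  V_le := fun _ _ => h.V_le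
  C_le := fun p hp => h.le p hp.1 hp.2
  C_norm := fun _ _ => h.cf_norm
  le_C := fun p hp => h.ge p hp.1 hp.2
  sym := fun p q p' q' hp hq hpq hp' hq' hpq' =>
    h.trans2 hp.1 hp.2 hq.1 hq.2 (Ne.symm hpq) hp'.1 hp'.2 hq'.1 hq'.2 (Ne.symm hpq')
  conjU := fun n hn p hp => h.cj_ww hn hp.1 hp.2
  conjC := fun n hn p hp => h.cj_cf n hn p hp.1 hp.2
  three := fun p hp => by
    obtain ⟨g, hg, rfl, h'⟩ := h.point hp.1 hp.2
    refine h'.three_z ?_
    rw [h.card_ww hp.1 hp.2, h8]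
  nc := fun p q hp hq hpq => h.nc' hp.1 hp.2 hq.1 hq.2 (Ne.symm hpq)
  nl := fun R hR hN hC => h.nl hR hN (hC z ⟨h.ln.z_mem, h.ln.z_ne⟩)
  char2 := fun p hp => by
    obtain ⟨g, hg, rfl, h'⟩ := h.point hp.1 hp.2
    exact h'.char2_cf
  soc := fun p hp X hX h2 hX1 hn => by
    obtain ⟨g, hg, rfl, h'⟩ := h.point hp.1 hp.2
    exact h'.soc_z hX h2 hX1 hn

/-- **Section 5**: `|W_z| = 8` is impossible. -/
theorem false_of_card_eight (hs : IsSimpleGroup G) (h8 : Nat.card (ww V cf z) = 8)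
    (hfull : ∀ c ∈ centralizer ({z} : Set G), ∀ v ∈ V, ∀ w ∈ V, c * v * c⁻¹ * w = w * (c * v * c⁻¹)) : False := by
  have : Fact (Nat.Prime 2) := ⟨Nat.prime_two⟩
  have hN := h.ntri h8
  have hp : Pt V z := ⟨h.ln.z_mem, h.ln.z_ne⟩
  obtain ⟨y, hy, hy1, hyz⟩ := h.ln.exists_y
  -- `N_G(V) ∩ C_G(z)` is a 2-group
  have h2 : IsPGroup 2 ↥(normalizer (V : Set G) ⊓ centralizer ({z} : Set G)) := by
    rintro ⟨n, hn1, hn2⟩
    have hnz : n * z * n⁻¹ = z := by
      rw [mem_centralizer_singleton_iff.mp hn2, mul_inv_cancel_right]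
    have hnn : n * n ∈ centralizer (V : Set G) := by
      rcases hN.fix_or_swap (hN.tr hp (⟨hy, hy1⟩ : Pt V y) (Ne.symm hyz)) hn1 hnz with ⟨e, -, -⟩ | ⟨e1, e2⟩
      · exact mul_mem e e
      · refine h.mem_centralizer_of h.ln.z_mem h.ln.z_ne hy hy1 hyz ?_ ?_
        · have := h.ln.z_comm hn2
          rw [mul_assoc, this, ← mul_assoc, this, mul_assoc]
        · have e3 : n * n * y * (n * n)⁻¹ = y := by
            calc n * n * y * (n * n)⁻¹ = n * (n * y * n⁻¹) * n⁻¹ := by group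
              _ = y := by rw [e1, e2]
          exact mul_inv_eq_iff_eq_mul.mp e3
    obtain ⟨k, hk⟩ := hN.isPGroup_centV' hp ⟨n * n, hnn⟩
    refine ⟨k + 1, Subtype.ext ?_⟩
    have hk' : (n * n) ^ 2 ^ k = 1 := congrArg Subtype.val hk
    change n ^ 2 ^ (k + 1) = 1
    rw [pow_succ', pow_mul, pow_two, hk']
  have hTle : T ≤ normalizer (V : Set G) ⊓ centralizer ({z} : Set G) := le_inf h.ln.T_norm h.ln.T_le
  let P : Sylow 2 G := ⟨T, h.ln.two, fun {Q} hQ hTQ => le_antisymm (h.T_max hQ hTQ) hTQ⟩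
  exact hN.false_of_simple hs h.ln.charTwo hp P (le_antisymm hTle (h.T_max h2 hTle)) hfull

end three

end Fam

end Cfsg.Agent.Omega.NO3S.Fit

end
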