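import Mathlib
import Cfsg.Agent.Classification.TitsFin.Tri
import Cfsg.Agent.MinSimple.Killing
import Cfsg.Agent.MinSimple.VModule
import Cfsg.Agent.Lib.CoprimeCommutator
import Cfsg.Agent.Solvable.Glauberman

section


/-!
# The natural block: the structure `NTri`, K-free version

K-free version (helper311 #13963, section 5) of `MinSimple/Nat*.lean` (helper789): the solvability of the 2-local
subgroups (`solv`) is replaced by `nl` (no nontrivial 2-subgroup is normalised by `N_G(V)` and by all `C p`). The files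
`MTri/{Tri,Act,W,G,Conf,End}.lean` are otherwise copies of `MinSimple/{NatTri,NatAct,NatW,NatG,NatConf,NatEnd}.lean`.

Blueprint `P21-NatBlock-helper789.md`, part A. `V` is a four-group, its involutions are the points `p`; `U p` is
elementary abelian of order 8 and contains `V`, `C p ≤ C_G(p)` normalises `U p` and contains
`N_G(V) ∩ C_G(p)`, and `C p` contains a 3-element not acting trivially on `U p / ⟨p⟩`.
-/

set_option autoImplicit false
set_option linter.unusedSectionVars false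

namespace Cfsg.Agent.Omega.NO3S.Fit.MTri

open Subgroup Cfsg Cfsg.Agent.ZN Cfsg.Agent.MinSimple.Geo
open Cfsg.Agent.Classification.TitsFin.Tri (Pt kst cj_kst K Q)
open Cfsg.Agent.ZN.Block (conj_mem_of_normalizer conj_mem_of_normalizer' le_normalizer_of_forall
  mem_normalizer_of card_sup_mul_card_inf card_mul_relIndex' mul_mem_of_relIndex_two)

universe u

variable {G : Type u} [Group G]

/-- The configuration of the three points of the line `V`, natural block. -/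
structure NTri (V : Subgroup G) (U C : G → Subgroup G) : Prop where
  cardV : Nat.card V = 4
  sqV : ∀ v ∈ V, v * v = 1
  cardU : ∀ p, Pt V p → Nat.card (U p) = 8
  sqU : ∀ p, Pt V p → ∀ u ∈ U p, u * u = 1
  V_le : ∀ p, Pt V p → V ≤ U p
  C_le : ∀ p, Pt V p → C p ≤ centralizer ({p} : Set G)
  C_norm : ∀ p, Pt V p → C p ≤ normalizer (U p : Set G)
  le_C : ∀ p, Pt V p → normalizer (V : Set G) ⊓ centralizer ({p} : Set G) ≤ C p
  sym : ∀ p q p' q', Pt V p → Pt V q → p ≠ q → Pt V p' → Pt V q' → p' ≠ q' →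
    ∃ n ∈ normalizer (V : Set G), n * p * n⁻¹ = p' ∧ n * q * n⁻¹ = q'
  conjU : ∀ n ∈ normalizer (V : Set G), ∀ p, Pt V p → cj n (U p) = U (n * p * n⁻¹)
  conjC : ∀ n ∈ normalizer (V : Set G), ∀ p, Pt V p → cj n (C p) = C (n * p * n⁻¹)
  three : ∀ p, Pt V p → ∃ f ∈ C p, (∃ n : ℕ, f ^ 3 ^ n = 1) ∧ f ∉ kst (C p) (U p) p
  nc : ∀ p q, Pt V p → Pt V q → p ≠ q → ∃ a ∈ U p, ∃ b ∈ U q, a * b ≠ b * a
  nl : ∀ R : Subgroup G, IsPGroup 2 R → normalizer (V : Set G) ≤ normalizer (R : Set G) →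
    (∀ p, Pt V p → C p ≤ normalizer (R : Set G)) → R = ⊥
  char2 : ∀ p, Pt V p → C p ⊓ centralizer (o2 (C p) : Set G) ≤ o2 (C p)
  soc : ∀ p, Pt V p → ∀ X : Subgroup G, X ≤ normalizer (V : Set G) ⊓ centralizer ({p} : Set G) →
    IsPGroup 2 X → X ≠ ⊥ → normalizer (V : Set G) ⊓ centralizer ({p} : Set G) ≤ normalizer (X : Set G) → p ∈ X

namespace NTri

variable {V : Subgroup G} {U C : G → Subgroup G}

variable (h : NTri V U C) {p q : G}

section Basic

include h

theorem pp (hp : Pt V p) : p * p = 1 := h.sqV p hp.1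

theorem commU (hp : Pt V p) {a b : G} (ha : a ∈ U p) (hb : b ∈ U p) : a * b = b * a := by
  have h1 := h.sqU p hp _ (mul_mem ha hb)
  have h2 := inv_eq_self (h.sqU p hp a ha)
  have h3 := inv_eq_self (h.sqU p hp b hb)
  calc a * b = (a * b)⁻¹ := (inv_eq_self h1).symm
    _ = b⁻¹ * a⁻¹ := by group
    _ = b * a := by rw [h2, h3]

theorem invU (hp : Pt V p) {a : G} (ha : a ∈ U p) : a⁻¹ = a := inv_eq_self (h.sqU p hp a ha)

theorem invp (hp : Pt V p) : p⁻¹ = p := inv_eq_self (h.pp hp)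

theorem p_mem (hp : Pt V p) (hq : Pt V q) : p ∈ U q := h.V_le q hq hp.1

theorem centV_le (hp : Pt V p) : centralizer (V : Set G) ≤ C p := by
  refine le_trans ?_ (h.le_C p hp)
  intro g hg
  have hg' := mem_centralizer_iff.mp hg
  refine ⟨?_, mem_centralizer_singleton_iff.mpr (hg' p hp.1).symm⟩
  refine mem_normalizer_of (fun m hm => ?_) (fun m hm => ?_)
  · rw [← hg' m hm, mul_inv_cancel_right]; exact hm
  · rw [mul_assoc, hg' m hm, inv_mul_cancel_left]; exact hm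

theorem centV_le_norm : centralizer (V : Set G) ≤ normalizer (V : Set G) := by
  intro g hg
  have hg' := mem_centralizer_iff.mp hg
  refine mem_normalizer_of (fun m hm => ?_) (fun m hm => ?_)
  · rw [← hg' m hm, mul_inv_cancel_right]; exact hm
  · rw [mul_assoc, hg' m hm, inv_mul_cancel_left]; exact hm

theorem U_le_centV (hp : Pt V p) : U p ≤ centralizer (V : Set G) := fun _ hu =>
  mem_centralizer_iff.mpr fun _ hv => h.commU hp (h.V_le p hp hv) hu

theorem U_le_C (hp : Pt V p) (hq : Pt V q) : U q ≤ C p := (h.U_le_centV hq).trans (h.centV_le hp)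

theorem K_le_centV (hp : Pt V p) : K U p ≤ centralizer (V : Set G) :=
  centralizer_le (h.V_le p hp)

theorem K_le_C (hp : Pt V p) (hq : Pt V q) : K U q ≤ C p := (h.K_le_centV hq).trans (h.centV_le hp)

theorem U_le_K (hp : Pt V p) : U p ≤ K U p := fun _ hu =>
  mem_centralizer_iff.mpr fun _ hv => h.commU hp hv hu

theorem K_comm {k u : G} (hk : k ∈ K U p) (hu : u ∈ U p) : k * u = u * k :=
  (mem_centralizer_iff.mp hk u hu).symm

theorem c_comm (hp : Pt V p) {c : G} (hc : c ∈ C p) : c * p = p * c :=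
  mem_centralizer_singleton_iff.mp (h.C_le p hp hc)

theorem conj_memU (hp : Pt V p) {c u : G} (hc : c ∈ C p) (hu : u ∈ U p) : c * u * c⁻¹ ∈ U p :=
  conj_mem_of_normalizer (h.C_norm p hp) hc hu

theorem conj_memU' (hp : Pt V p) {c u : G} (hc : c ∈ C p) (hu : u ∈ U p) : c⁻¹ * u * c ∈ U p :=
  conj_mem_of_normalizer' (h.C_norm p hp) hc hu

theorem mem_Q_iff (hp : Pt V p) {c : G} :
    c ∈ Q U C p ↔ c ∈ C p ∧ ∀ u ∈ U p, c * u * c⁻¹ = u ∨ c * u * c⁻¹ = p * u := by
  have hpp := h.pp hp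
  constructor
  · rintro ⟨h0, -, h2, -⟩
    refine ⟨h0, fun u hu => ?_⟩
    rcases (mem_zpowers_iff_of_mul_self hpp).mp (h2 u hu) with e | e
    · left; exact mul_inv_eq_one.mp e
    · right; exact mul_inv_eq_iff_eq_mul.mp e
  · rintro ⟨h0, h1⟩
    have key : ∀ u ∈ U p, c * u * c⁻¹ * u⁻¹ ∈ zpowers p := by
      intro u hu
      rcases h1 u hu with e | e
      · rw [e, mul_inv_cancel]; exact one_mem _
      · rw [e, mul_inv_cancel_right]; exact mem_zpowers p
    refine ⟨h0, h.c_comm hp h0, key, fun u hu => ?_⟩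
    have h3 := key _ (h.conj_memU' hp h0 hu)
    have e : c⁻¹ * u * c * u⁻¹ = (c * (c⁻¹ * u * c) * c⁻¹ * (c⁻¹ * u * c)⁻¹)⁻¹ := by group
    rw [e]
    exact inv_mem h3

theorem K_le_Q (hp : Pt V p) : K U p ≤ Q U C p := fun k hk =>
  (h.mem_Q_iff hp).mpr ⟨h.K_le_C hp hp hk, fun u hu => Or.inl (by
    rw [← mem_centralizer_iff.mp hk u hu, mul_inv_cancel_right])⟩

theorem C_le_normK (hp : Pt V p) : C p ≤ normalizer (K U p : Set G) := by
  refine le_normalizer_of_forall fun c hc k hk => mem_centralizer_iff.mpr fun u hu => ?_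
  have h1 := mem_centralizer_iff.mp hk _ (h.conj_memU' hp hc hu)
  calc u * (c * k * c⁻¹) = c * ((c⁻¹ * u * c) * k) * c⁻¹ := by group
    _ = c * (k * (c⁻¹ * u * c)) * c⁻¹ := by rw [h1]
    _ = c * k * c⁻¹ * u := by group

theorem C_le_normQ (hp : Pt V p) : C p ≤ normalizer (Q U C p : Set G) := by
  refine le_normalizer_of_forall fun c hc k hk => ?_
  obtain ⟨h0, h1⟩ := (h.mem_Q_iff hp).mp hk
  refine (h.mem_Q_iff hp).mpr ⟨mul_mem (mul_mem hc h0) (inv_mem hc), fun u hu => ?_⟩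
  have hcp := h.c_comm hp hc
  have e : c * k * c⁻¹ * u * (c * k * c⁻¹)⁻¹ = c * (k * (c⁻¹ * u * c) * k⁻¹) * c⁻¹ := by group
  rw [e]
  rcases h1 _ (h.conj_memU' hp hc hu) with h2 | h2
  · left; rw [h2]; group
  · right; rw [h2]
    calc c * (p * (c⁻¹ * u * c)) * c⁻¹ = (c * p) * c⁻¹ * u := by group
      _ = p * u := by rw [hcp, mul_inv_cancel_right]

/-- the third point -/
theorem third (hp : Pt V p) (hq : Pt V q) (hpq : p ≠ q) : Pt V (p * q) ∧ p * q ≠ p ∧ p * q ≠ q := by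
  refine ⟨⟨mul_mem hp.1 hq.1, fun e => hpq ?_⟩, fun e => hq.2 (by simpa using e), fun e => hp.2 (by simpa using e)⟩
  rw [mul_eq_one_iff_eq_inv.mp e, inv_eq_self (h.pp hq)]

theorem commV (hp : Pt V p) (hq : Pt V q) : p * q = q * p :=
  h.commU hp (h.V_le p hp hp.1) (h.V_le p hp hq.1)

/-- conjugation by an element of `N_G(V)` exchanging two points -/
theorem exists_swap (hp : Pt V p) (hq : Pt V q) (hpq : p ≠ q) : ∃ n ∈ normalizer (V : Set G),
    n * p * n⁻¹ = q ∧ n * q * n⁻¹ = p ∧ cj n (U p) = U q ∧ cj n (U q) = U p ∧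
      cj n (C p) = C q ∧ cj n (C q) = C p := by
  obtain ⟨n, hn, h1, h2⟩ := h.sym p q q p hp hq hpq hq hp hpq.symm
  refine ⟨n, hn, h1, h2, ?_, ?_, ?_, ?_⟩
  · rw [h.conjU n hn p hp, h1]
  · rw [h.conjU n hn q hq, h2]
  · rw [h.conjC n hn p hp, h1]
  · rw [h.conjC n hn q hq, h2]

/-- (A2) `U_q ≰ Q_p` -/
theorem exists_t (hp : Pt V p) (hq : Pt V q) (hpq : p ≠ q) : ∃ t ∈ U q, t ∉ Q U C p := by
  by_contra hcon
  push Not at hcon
  obtain ⟨n, hn, h1, h2, h3, h4, -, -⟩ := h.exists_swap hp hq hpq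
  obtain ⟨a, ha, b, hb, hab⟩ := h.nc p q hp hq hpq
  apply hab
  have hpp := h.pp hp
  have hqq := h.pp hq
  have e1 : b * a * b⁻¹ = a ∨ b * a * b⁻¹ = p * a := ((h.mem_Q_iff hp).mp (hcon b hb)).2 a ha
  have e2 : a * b * a⁻¹ = b ∨ a * b * a⁻¹ = q * b := by
    rw [← h4] at ha
    rw [← h3] at hb
    obtain ⟨b', hb', rfl⟩ := ha
    obtain ⟨a', ha', rfl⟩ := hb
    change n * b' * n⁻¹ * (n * a' * n⁻¹) * (n * b' * n⁻¹)⁻¹ = n * a' * n⁻¹ ∨
      n * b' * n⁻¹ * (n * a' * n⁻¹) * (n * b' * n⁻¹)⁻¹ = q * (n * a' * n⁻¹)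
    have e : n * b' * n⁻¹ * (n * a' * n⁻¹) * (n * b' * n⁻¹)⁻¹ = n * (b' * a' * b'⁻¹) * n⁻¹ := by group
    rw [e]
    rcases ((h.mem_Q_iff hp).mp (hcon b' hb')).2 a' ha' with h5 | h5
    · left; rw [h5]
    · right; rw [h5, ← h1]; group
  rcases e1 with e1 | e1
  · calc a * b = (b * a * b⁻¹) * b := by rw [e1]
      _ = b * a := by group
  rcases e2 with e2 | e2
  · calc a * b = (a * b * a⁻¹) * a := by group
      _ = b * a := by rw [e2]
  · exfalso
    have f1 : b * a = p * (a * b) := by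
      calc b * a = (b * a * b⁻¹) * b := by group
        _ = p * (a * b) := by rw [e1, mul_assoc]
    have f2 : a * b = q * (b * a) := by
      calc a * b = (a * b * a⁻¹) * a := by group
        _ = q * (b * a) := by rw [e2, mul_assoc]
    have f3 : p * q = 1 := by
      have : b * a = p * q * (b * a) := by
        calc b * a = p * (a * b) := f1
          _ = p * (q * (b * a)) := by rw [f2]
          _ = p * q * (b * a) := by group
      exact (mul_eq_right.mp this.symm)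
    exact (h.third hp hq hpq).1.2 f3

/-- the elements of `V` -/
theorem mem_V (hp : Pt V p) (hq : Pt V q) (hpq : p ≠ q) {v : G} (hv : v ∈ V) :
    v = 1 ∨ v = p ∨ v = q ∨ v = p * q := by
  classical
  obtain ⟨h1, h2, h3⟩ := h.third hp hq hpq
  have hfin : Finite V := Nat.finite_of_card_ne_zero (by rw [h.cardV]; norm_num)
  have e1 : (1 : G) ∉ ({p, q, p * q} : Finset G) := by
    simp only [Finset.mem_insert, Finset.mem_singleton, not_or]
    exact ⟨fun e => hp.2 e.symm, fun e => hq.2 e.symm, fun e => h1.2 e.symm⟩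
  have e2 : p ∉ ({q, p * q} : Finset G) := by
    simp only [Finset.mem_insert, Finset.mem_singleton, not_or]
    exact ⟨hpq, fun e => h2 e.symm⟩
  have e3 : q ∉ ({p * q} : Finset G) := by
    simp only [Finset.mem_singleton]
    exact fun e => h3 e.symm
  have hcard : ({1, p, q, p * q} : Finset G).card = 4 := by
    rw [Finset.card_insert_of_notMem e1, Finset.card_insert_of_notMem e2, Finset.card_insert_of_notMem e3,
      Finset.card_singleton]
  have hsub : (({1, p, q, p * q} : Finset G) : Set G) ⊆ (V : Set G) := by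
    intro x hx
    simp only [Finset.coe_insert, Finset.coe_singleton, Set.mem_insert_iff, Set.mem_singleton_iff] at hx
    rcases hx with rfl | rfl | rfl | rfl
    · exact one_mem V
    · exact hp.1
    · exact hq.1
    · exact h1.1
  have hfinV : (V : Set G).Finite := Set.toFinite _
  have heq := Set.eq_of_subset_of_ncard_le hsub (by
    rw [Set.ncard_coe_finset, hcard]
    have : (V : Set G).ncard = 4 := by rw [← h.cardV]; exact (Nat.card_coe_set_eq (V : Set G)).symm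
    rw [this]) hfinV
  have : v ∈ (({1, p, q, p * q} : Finset G) : Set G) := by rw [heq]; exact hv
  simpa using this

theorem relIndex_V (hp : Pt V p) : V.relIndex (U p) = 2 := by
  have h1 := card_mul_relIndex' (h.V_le p hp)
  rw [h.cardV, h.cardU p hp] at h1
  omega

theorem mul_memV (hp : Pt V p) {a b : G} (ha : a ∈ U p) (ha' : a ∉ V) (hb : b ∈ U p) (hb' : b ∉ V) :
    a * b ∈ V := mul_mem_of_relIndex_two (h.relIndex_V hp) ha hb ha' hb'

theorem exists_notMem (hp : Pt V p) : ∃ a ∈ U p, a ∉ V := by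
  by_contra hcon
  push Not at hcon
  have h1 : U p = V := le_antisymm hcon (h.V_le p hp)
  have h2 := h.cardU p hp
  rw [h1, h.cardV] at h2
  omega

/-- (A1) -/
theorem inf_eq (hp : Pt V p) (hq : Pt V q) (hpq : p ≠ q) : U p ⊓ U q = V := by
  refine le_antisymm ?_ (le_inf (h.V_le p hp) (h.V_le q hq))
  intro a ha
  by_contra haV
  have hle : U p ≤ U q := by
    intro x hx
    by_cases hxV : x ∈ V
    · exact h.V_le q hq hxV
    · have h1 := h.mul_memV hp hx hxV ha.1 haV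
      have h2 : x = (x * a) * a := by rw [mul_assoc, h.sqU p hp a ha.1, mul_one]
      rw [h2]
      exact mul_mem (h.V_le q hq h1) ha.2
  obtain ⟨x, hx, y, hy, hxy⟩ := h.nc p q hp hq hpq
  exact hxy (h.commU hq (hle hx) hy)

theorem comm_mem (hp : Pt V p) (hq : Pt V q) (hpq : p ≠ q) {a b : G} (ha : a ∈ U p) (hb : b ∈ U q) :
    a * b * a⁻¹ * b⁻¹ ∈ V := by
  rw [← h.inf_eq hp hq hpq]
  refine mem_inf.mpr ⟨?_, mul_mem (h.conj_memU hq (h.U_le_C hq hp ha) hb) (inv_mem hb)⟩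
  have h1 := h.conj_memU hp (h.U_le_C hp hq hb) (inv_mem ha)
  have e : a * b * a⁻¹ * b⁻¹ = a * (b * a⁻¹ * b⁻¹) := by group
  rw [e]
  exact mul_mem (S := Subgroup G) ha h1

theorem V_le_Q (hp : Pt V p) : V ≤ Q U C p := (h.V_le p hp).trans ((h.U_le_K hp).trans (h.K_le_Q hp))

theorem notMem_Q (hp : Pt V p) (hq : Pt V q) (hpq : p ≠ q) {b : G} (hb : b ∈ U q) (hbV : b ∉ V) :
    b ∉ Q U C p := by
  intro hbQ
  obtain ⟨t, ht, htQ⟩ := h.exists_t hp hq hpq
  have htV : t ∉ V := fun e => htQ (h.V_le_Q hp e)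
  apply htQ
  have h1 := h.V_le_Q hp (h.mul_memV hq ht htV hb hbV)
  have e : t = (t * b) * b := by rw [mul_assoc, h.sqU q hq b hb, mul_one]
  rw [e]
  exact mul_mem h1 hbQ

/-- (A1), the commutator: `[u_p, u_q] = pq` -/
theorem comm_eq (hp : Pt V p) (hq : Pt V q) (hpq : p ≠ q) {a b : G} (ha : a ∈ U p) (haV : a ∉ V)
    (hb : b ∈ U q) (hbV : b ∉ V) : a * b * a⁻¹ * b⁻¹ = p * q := by
  -- one sided statement
  have key : ∀ {p q : G}, Pt V p → Pt V q → p ≠ q → ∀ {a b : G}, a ∈ U p → a ∉ V → b ∈ U q → b ∉ V →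
      a * b * a⁻¹ * b⁻¹ ≠ 1 ∧ a * b * a⁻¹ * b⁻¹ ≠ p := by
    intro p q hp hq hpq a b ha haV hb hbV
    have hbQ := h.notMem_Q hp hq hpq hb hbV
    have hbC := h.U_le_C hp hq hb
    have hai := h.invU hp ha
    constructor
    · intro e
      apply hbQ
      refine (h.mem_Q_iff hp).mpr ⟨hbC, fun u hu => Or.inl ?_⟩
      have e1 : a * b = b * a := by
        have : a * b = (a * b * a⁻¹ * b⁻¹) * (b * a) := by group
        rw [this, e, one_mul]
      by_cases huV : u ∈ V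
      · rw [h.commU hq hb (h.V_le q hq huV), mul_inv_cancel_right]
      · have h1 := h.mul_memV hp hu huV ha haV
        have h2 : b * (u * a) = (u * a) * b := h.commU hq hb (h.V_le q hq h1)
        have e2 : u = (u * a) * a := by rw [mul_assoc, h.sqU p hp a ha, mul_one]
        calc b * u * b⁻¹ = b * ((u * a) * a) * b⁻¹ := by rw [← e2]
          _ = (b * (u * a)) * a * b⁻¹ := by group
          _ = (u * a) * (b * a) * b⁻¹ := by rw [h2]; group
          _ = (u * a) * (a * b) * b⁻¹ := by rw [e1]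
          _ = (u * a) * a := by group
          _ = u := e2.symm
    · intro e
      apply hbQ
      refine (h.mem_Q_iff hp).mpr ⟨hbC, fun u hu => ?_⟩
      have e1 : a * b = p * (b * a) := by
        have : a * b = (a * b * a⁻¹ * b⁻¹) * (b * a) := by group
        rw [this, e]
      have e1' : b * a = p * (a * b) := by
        rw [e1, ← mul_assoc, h.pp hp, one_mul]
      by_cases huV : u ∈ V
      · left; rw [h.commU hq hb (h.V_le q hq huV), mul_inv_cancel_right]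
      · right
        have h1 := h.mul_memV hp hu huV ha haV
        have h2 : b * (u * a) = (u * a) * b := h.commU hq hb (h.V_le q hq h1)
        have e2 : u = (u * a) * a := by rw [mul_assoc, h.sqU p hp a ha, mul_one]
        have hpua : (u * a) * p = p * (u * a) := h.commU hp (mul_mem hu ha) (h.V_le p hp hp.1)
        calc b * u * b⁻¹ = b * ((u * a) * a) * b⁻¹ := by rw [← e2]
          _ = (b * (u * a)) * a * b⁻¹ := by group
          _ = (u * a) * (b * a) * b⁻¹ := by rw [h2]; group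
          _ = (u * a) * (p * (a * b)) * b⁻¹ := by rw [e1']
          _ = (u * a) * p * a := by group
          _ = p * ((u * a) * a) := by rw [hpua]; group
          _ = p * u := by rw [← e2]
  obtain ⟨k1, k2⟩ := key hp hq hpq ha haV hb hbV
  obtain ⟨k3, k4⟩ := key hq hp hpq.symm hb hbV ha haV
  rcases h.mem_V hp hq hpq (h.comm_mem hp hq hpq ha hb) with e | e | e | e
  · exact absurd e k1
  · exact absurd e k2
  · exfalso
    apply k4
    have : b * a * b⁻¹ * a⁻¹ = (a * b * a⁻¹ * b⁻¹)⁻¹ := by group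
    rw [this, e, h.invp hq]
  · exact e

/-- `u_p u_q = r u_q u_p` -/
theorem mul_comm_eq (hp : Pt V p) (hq : Pt V q) (hpq : p ≠ q) {a b : G} (ha : a ∈ U p) (haV : a ∉ V)
    (hb : b ∈ U q) (hbV : b ∉ V) : a * b = p * q * (b * a) := by
  rw [← h.comm_eq hp hq hpq ha haV hb hbV]; group

/-- an element of `C_G(V)` moves elements of `U q` by elements of `V` -/
theorem D_act (hq : Pt V q) {g b : G} (hg : g ∈ centralizer (V : Set G)) (hb : b ∈ U q) :
    g * b * g⁻¹ * b⁻¹ ∈ V := by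
  have hg' := mem_centralizer_iff.mp hg
  by_cases hbV : b ∈ V
  · rw [← hg' b hbV, mul_inv_cancel_right, mul_inv_cancel]
    exact one_mem V
  · have h1 := h.conj_memU hq (h.centV_le hq hg) hb
    rw [h.invU hq hb]
    refine h.mul_memV hq h1 (fun e => hbV ?_) hb hbV
    have h2 : g * b * g⁻¹ * g = g * (g * b * g⁻¹) := hg' _ e
    have h4 : g * b = g * (g * b * g⁻¹) := by
      calc g * b = g * b * g⁻¹ * g := by group
        _ = g * (g * b * g⁻¹) := h2
    rw [mul_left_cancel h4]; exact e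

end Basic

end NTri

end Cfsg.Agent.Omega.NO3S.Fit.MTri

end

section


/-!
# The natural block: the action of `C p` on `U p / ⟨p⟩`, the killing lemma, `K p` is a 2-group

Blueprint `P21-NatBlock-helper789.md`, (A2), (A3), (A6), (A7).
-/

set_option autoImplicit false
set_option linter.unusedSectionVars false

namespace Cfsg.Agent.Omega.NO3S.Fit.MTri

open Subgroup Cfsg Cfsg.Agent.ZN Cfsg.Agent.MinSimple.Geo
open Cfsg.Agent.Classification.TitsFin.Tri (Pt kst cj_kst K Q)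
open Cfsg.Agent.ZN.Block (conj_mem_of_normalizer conj_mem_of_normalizer' le_normalizer_of_forall
  mem_normalizer_of card_sup_mul_card_inf card_mul_relIndex' mul_mem_of_relIndex_two o2_le o2_conj o2_isPGroup
  le_o2 le_normalizer_o2)
open Cfsg.Agent.MinSimple.VModule (oddGen mem_oddGen oddGen_def oddGen_le le_normalizer_oddGen)

universe u

variable {G : Type u} [Group G]

/-- congruence modulo `⟨p⟩` -/
def Cg (p x y : G) : Prop := x = y ∨ x = p * y

namespace Cg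

variable {p x y z x' y' c : G}

theorem refl (p x : G) : Cg p x x := Or.inl rfl

theorem symm (hpp : p * p = 1) (h : Cg p x y) : Cg p y x := by
  rcases h with h | h
  · exact Or.inl h.symm
  · right; rw [h, ← mul_assoc, hpp, one_mul]

theorem trans (hpp : p * p = 1) (h : Cg p x y) (h' : Cg p y z) : Cg p x z := by
  rcases h with rfl | rfl
  · exact h'
  rcases h' with rfl | rfl
  · right; rfl
  · left; rw [← mul_assoc, hpp, one_mul]

theorem mul (hpp : p * p = 1) (hc : p * y = y * p) (h : Cg p x y) (h' : Cg p x' y') :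
    Cg p (x * x') (y * y') := by
  rcases h with rfl | rfl
  · rcases h' with rfl | rfl
    · left; rfl
    · right; rw [← mul_assoc, ← hc, mul_assoc]
  · rcases h' with rfl | rfl
    · right; rw [mul_assoc]
    · left; rw [hc, mul_assoc y, ← mul_assoc p p, hpp, one_mul]

theorem conj (hc : c * p = p * c) (h : Cg p x y) : Cg p (c * x * c⁻¹) (c * y * c⁻¹) := by
  rcases h with rfl | rfl
  · left; rfl
  · right
    calc c * (p * y) * c⁻¹ = (c * p) * y * c⁻¹ := by group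
      _ = p * (c * y * c⁻¹) := by rw [hc]; group

theorem of_conj (hc : c * p = p * c) (h : Cg p (c * x * c⁻¹) (c * y * c⁻¹)) : Cg p x y := by
  have hc' : c⁻¹ * p = p * c⁻¹ := (show Commute c p from hc).inv_left
  have := h.conj hc'
  have e : ∀ w : G, c⁻¹ * (c * w * c⁻¹) * c⁻¹⁻¹ = w := fun w => by group
  rwa [e, e] at this

end Cg

/-- `c` moves every class of `U / ⟨p⟩` -/
def Mov (U : Subgroup G) (p c : G) : Prop := ∀ u ∈ U, ¬ Cg p u 1 → ¬ Cg p (c * u * c⁻¹) u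

namespace NTri

variable {V : Subgroup G} {U C : G → Subgroup G}

variable (h : NTri V U C) {p q : G}

section Act

include h

theorem mem_Q_iff' (hp : Pt V p) {c : G} :
    c ∈ Q U C p ↔ c ∈ C p ∧ ∀ u ∈ U p, Cg p (c * u * c⁻¹) u := h.mem_Q_iff hp

theorem not_cg (hq : Pt V q) (hpq : p ≠ q) : ¬ Cg p q 1 := by
  rintro (e | e)
  · exact hq.2 e
  · exact hpq (by rw [e, mul_one])

theorem exists_four (hp : Pt V p) {u : G} (hu : u ∈ U p) (hu1 : ¬ Cg p u 1) :
    ∃ A : Subgroup G, A ≤ U p ∧ A.relIndex (U p) = 2 ∧ ∀ x, x ∈ A ↔ Cg p x 1 ∨ Cg p x u := by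
  classical
  have hpp := h.pp hp
  have huu := h.sqU p hp u hu
  have hc : u * p = p * u := h.commU hp hu (h.p_mem hp hp)
  have e1 : p * (p * u) = u := by rw [← mul_assoc, hpp, one_mul]
  have e2 : u * (p * u) = p := by rw [← mul_assoc, hc, mul_assoc, huu, mul_one]
  have e3 : p * u * p = u := by rw [mul_assoc, hc, e1]
  have e4 : p * u * u = p := by rw [mul_assoc, huu, mul_one]
  have e5 : p * u * (p * u) = 1 := by rw [mul_assoc, e2, hpp]
  let A : Subgroup G :=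
    { carrier := {x | x = 1 ∨ x = p ∨ x = u ∨ x = p * u}
      mul_mem' := by
        rintro a b (rfl | rfl | rfl | rfl) (rfl | rfl | rfl | rfl) <;>
          simp only [Set.mem_ofPred_eq, one_mul, mul_one, hpp, huu, hc, e1, e2, e3, e4, e5, true_or, or_true]
      one_mem' := Or.inl rfl
      inv_mem' := by
        rintro a (rfl | rfl | rfl | rfl)
        · left; simp
        · right; left; exact inv_eq_self hpp
        · right; right; left; exact inv_eq_self huu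
        · right; right; right; exact inv_eq_self e5 }
  have hA : ∀ x, x ∈ A ↔ x = 1 ∨ x = p ∨ x = u ∨ x = p * u := fun x => Iff.rfl
  have hA' : ∀ x, x ∈ A ↔ Cg p x 1 ∨ Cg p x u := by
    intro x
    rw [hA]
    unfold Cg
    rw [mul_one, or_assoc]
  have hle : A ≤ U p := by
    rintro x (rfl | rfl | rfl | rfl)
    · exact one_mem _
    · exact h.p_mem hp hp
    · exact hu
    · exact mul_mem (h.p_mem hp hp) hu
  have hcard : Nat.card A = 4 := by
    have f1 : (1 : G) ∉ ({p, u, p * u} : Finset G) := by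
      simp only [Finset.mem_insert, Finset.mem_singleton, not_or]
      refine ⟨fun e => hp.2 e.symm, fun e => hu1 (Or.inl e.symm), fun e => hu1 (Or.inr ?_)⟩
      rw [mul_one, ← e1, ← e, mul_one]
    have f2 : p ∉ ({u, p * u} : Finset G) := by
      simp only [Finset.mem_insert, Finset.mem_singleton, not_or]
      exact ⟨fun e => hu1 (Or.inr (by rw [mul_one, e])), fun e => hu1 (Or.inl (mul_eq_left.mp e.symm))⟩
    have f3 : u ∉ ({p * u} : Finset G) := by
      simp only [Finset.mem_singleton]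
      exact fun e => hp.2 (mul_eq_right.mp e.symm)
    have hc4 : ({1, p, u, p * u} : Finset G).card = 4 := by
      rw [Finset.card_insert_of_notMem f1, Finset.card_insert_of_notMem f2, Finset.card_insert_of_notMem f3,
        Finset.card_singleton]
    have heq : (A : Set G) = (({1, p, u, p * u} : Finset G) : Set G) := by
      ext x
      simp only [Finset.coe_insert, Finset.coe_singleton, Set.mem_insert_iff, Set.mem_singleton_iff]
      exact hA x
    have : Nat.card A = (A : Set G).ncard := Nat.card_coe_set_eq (A : Set G)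
    rw [this, heq, Set.ncard_coe_finset, hc4]
  refine ⟨A, hle, ?_, hA'⟩
  have h1 := card_mul_relIndex' hle
  rw [hcard, h.cardU p hp] at h1
  omega

theorem four (hp : Pt V p) {u w z : G} (hu : u ∈ U p) (hu1 : ¬ Cg p u 1) (hw : w ∈ U p) (hw1 : ¬ Cg p w 1)
    (hwu : ¬ Cg p w u) (hz : z ∈ U p) : Cg p z 1 ∨ Cg p z u ∨ Cg p z w ∨ Cg p z (u * w) := by
  obtain ⟨A, hA, hA2, hmem⟩ := h.exists_four hp hu hu1
  have hwA : w ∉ A := by
    rw [hmem]; push Not; exact ⟨hw1, hwu⟩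
  by_cases hzA : z ∈ A
  · rcases (hmem z).mp hzA with e | e
    · exact Or.inl e
    · exact Or.inr (Or.inl e)
  · have h1 := mul_mem_of_relIndex_two hA2 hz hw hzA hwA
    have hww := h.sqU p hp w hw
    have e : z = (z * w) * w := by rw [mul_assoc, hww, mul_one]
    have hpp := h.pp hp
    rcases (hmem _).mp h1 with f | f
    · right; right; left
      rw [e]
      have := f.mul hpp (by rw [mul_one, one_mul]) (Cg.refl p w)
      rwa [one_mul] at this
    · right; right; right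
      rw [e]
      exact f.mul hpp (h.commU hp (h.p_mem hp hp) hu) (Cg.refl p w)

theorem exists_indep (hp : Pt V p) {u : G} (hu : u ∈ U p) (hu1 : ¬ Cg p u 1) :
    ∃ w ∈ U p, ¬ Cg p w 1 ∧ ¬ Cg p w u := by
  obtain ⟨A, hA, hA2, hmem⟩ := h.exists_four hp hu hu1
  by_contra hcon
  push Not at hcon
  have h1 : U p ≤ A := by
    intro w hw
    rw [hmem]
    by_cases h2 : Cg p w 1
    · exact Or.inl h2
    · exact Or.inr (hcon w hw h2)
  rw [relIndex_eq_one.mpr h1] at hA2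
  omega

theorem mul_conj (hp : Pt V p) {c a b a' b' : G} (ha' : a' ∈ U p)
    (ha : Cg p (c * a * c⁻¹) a') (hb : Cg p (c * b * c⁻¹) b') :
    Cg p (c * (a * b) * c⁻¹) (a' * b') := by
  have e : c * (a * b) * c⁻¹ = (c * a * c⁻¹) * (c * b * c⁻¹) := by group
  rw [e]
  exact ha.mul (h.pp hp) (h.commU hp (h.p_mem hp hp) ha') hb

/-- an element fixing two classes lies in `Q p` -/
theorem mem_Q_of_fix (hp : Pt V p) {c u w : G} (hc : c ∈ C p) (hu : u ∈ U p) (hu1 : ¬ Cg p u 1) (hw : w ∈ U p)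
    (hw1 : ¬ Cg p w 1) (hwu : ¬ Cg p w u) (h1 : Cg p (c * u * c⁻¹) u) (h2 : Cg p (c * w * c⁻¹) w) :
    c ∈ Q U C p := by
  have hpp := h.pp hp
  have hcp := h.c_comm hp hc
  refine (h.mem_Q_iff' hp).mpr ⟨hc, fun z hz => ?_⟩
  have key : ∀ {y : G}, Cg p z y → Cg p (c * y * c⁻¹) y → Cg p (c * z * c⁻¹) z := fun e1 e2 =>
    ((e1.conj hcp).trans hpp e2).trans hpp (e1.symm hpp)
  rcases h.four hp hu hu1 hw hw1 hwu hz with e | e | e | e
  · exact key e (Or.inl (by group))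
  · exact key e h1
  · exact key e h2
  · exact key e (h.mul_conj hp hu h1 h2)

theorem mul_mem_Q_of_fix (hp : Pt V p) {c u : G} (hc : c ∈ C p) (hu : u ∈ U p) (hu1 : ¬ Cg p u 1)
    (h1 : Cg p (c * u * c⁻¹) u) : c * c ∈ Q U C p := by
  have hpp := h.pp hp
  have hcp := h.c_comm hp hc
  obtain ⟨w, hw, hw1, hwu⟩ := h.exists_indep hp hu hu1
  have hz := h.conj_memU hp hc hw
  have e : ∀ x : G, c * c * x * (c * c)⁻¹ = c * (c * x * c⁻¹) * c⁻¹ := fun x => by group
  rcases h.four hp hu hu1 hw hw1 hwu hz with e1 | e1 | e1 | e1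
  · exfalso
    apply hw1
    have : Cg p (c * w * c⁻¹) (c * 1 * c⁻¹) := by rw [mul_one, mul_inv_cancel]; exact e1
    exact this.of_conj hcp
  · exfalso
    apply hwu
    exact (e1.trans hpp (h1.symm hpp)).of_conj hcp
  · exact mul_mem (h.mem_Q_of_fix hp hc hu hu1 hw hw1 hwu h1 e1) (h.mem_Q_of_fix hp hc hu hu1 hw hw1 hwu h1 e1)
  · refine h.mem_Q_of_fix hp (mul_mem hc hc) hu hu1 hw hw1 hwu ?_ ?_
    · rw [e]; exact (h1.conj hcp).trans hpp h1
    · rw [e]
      have h2 := (e1.conj hcp).trans hpp (h.mul_conj hp hu h1 e1)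
      have e3 : u * (u * w) = w := by rw [← mul_assoc, h.sqU p hp u hu, one_mul]
      rwa [e3] at h2

end Act

theorem inf_mk {A B : Subgroup G} {x : G} (h1 : x ∈ A) (h2 : x ∈ B) : x ∈ A ⊓ B := ⟨h1, h2⟩

theorem mem_of_sq_odd {H : Subgroup G} {f : G} (ho : Odd (orderOf f)) (hf : f * f ∈ H) : f ∈ H := by
  obtain ⟨m, hm⟩ := ho
  have h1 : f ^ (2 * m + 1) = 1 := by rw [← hm]; exact pow_orderOf_eq_one f
  have h2 : f = (f * f) ^ (m + 1) := by
    calc f = f ^ (2 * m + 1) * f := by rw [h1, one_mul]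
      _ = f ^ (2 * (m + 1)) := by rw [← pow_succ]; congr 1
      _ = (f * f) ^ (m + 1) := by rw [pow_mul, pow_two]
  rw [h2]
  exact pow_mem hf _

section Act2

include h

theorem mov_of_odd (hp : Pt V p) {f : G} (hf : f ∈ C p) (ho : Odd (orderOf f)) (hfQ : f ∉ Q U C p) :
    Mov (U p) p f := fun _ hu hu1 h1 => hfQ (mem_of_sq_odd ho (h.mul_mem_Q_of_fix hp hf hu hu1 h1))

theorem conj_notCg (hp : Pt V p) {c u : G} (hc : c ∈ C p) (hu1 : ¬ Cg p u 1) : ¬ Cg p (c * u * c⁻¹) 1 := by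
  intro e
  apply hu1
  have : Cg p (c * u * c⁻¹) (c * 1 * c⁻¹) := by rw [mul_one, mul_inv_cancel]; exact e
  exact this.of_conj (h.c_comm hp hc)

theorem mul_notCg (hp : Pt V p) {u w : G} (hu : u ∈ U p) (hwu : ¬ Cg p w u) :
    ¬ Cg p (u * w) 1 := by
  intro e
  apply hwu
  have h1 := (Cg.refl p u).mul (h.pp hp) (h.commU hp (h.p_mem hp hp) hu) e
  rwa [← mul_assoc, h.sqU p hp u hu, one_mul, mul_one] at h1

/-- a moving element: `f² u = u · f u` modulo `p` -/
theorem mov_sq (hp : Pt V p) {f : G} (hf : f ∈ C p) (hm : Mov (U p) p f) {u : G} (hu : u ∈ U p)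
    (hu1 : ¬ Cg p u 1) : Cg p (f * (f * u * f⁻¹) * f⁻¹) (u * (f * u * f⁻¹)) := by
  have hpp := h.pp hp
  have hcp := h.c_comm hp hf
  have hw := h.conj_memU hp hf hu
  have hw1 := h.conj_notCg hp hf hu1
  have hwu := hm u hu hu1
  have hz := h.conj_memU hp hf hw
  rcases h.four hp hu hu1 hw hw1 hwu hz with e | e | e | e
  · exact absurd e (h.conj_notCg hp hf hw1)
  · exfalso
    refine hm _ (mul_mem hu hw) (h.mul_notCg hp hu hwu) ?_
    have h1 := h.mul_conj hp hw (Cg.refl p _) e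
    rwa [h.commU hp hw hu] at h1
  · exact absurd e (hm _ hw hw1)
  · exact e

/-- cubes -/
theorem mov_cube (hp : Pt V p) {f : G} (hf : f ∈ C p) (hm : Mov (U p) p f) : f ^ 3 ∈ Q U C p := by
  have hpp := h.pp hp
  have hcp := h.c_comm hp hf
  refine (h.mem_Q_iff' hp).mpr ⟨pow_mem hf 3, fun u hu => ?_⟩
  have e : f ^ 3 * u * (f ^ 3)⁻¹ = f * (f * (f * u * f⁻¹) * f⁻¹) * f⁻¹ := by
    rw [pow_succ, pow_two]; group
  rw [e]
  by_cases hu1 : Cg p u 1
  · have h1 := ((hu1.conj hcp).conj hcp).conj hcp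
    have e2 : f * (f * (f * 1 * f⁻¹) * f⁻¹) * f⁻¹ = 1 := by group
    rw [e2] at h1
    exact h1.trans hpp (hu1.symm hpp)
  · have hw := h.conj_memU hp hf hu
    have h1 := (h.mov_sq hp hf hm hu hu1).conj hcp
    have h2 := h.mul_conj hp hw (Cg.refl p _) (h.mov_sq hp hf hm hu hu1)
    have e3 : (f * u * f⁻¹) * (u * (f * u * f⁻¹)) = u := by
      rw [h.commU hp hw (mul_mem hu hw), mul_assoc, h.sqU p hp _ hw, mul_one]
    rw [e3] at h2
    exact h1.trans hpp h2

/-- two moving elements agree or are inverse modulo `Q p` -/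
theorem mov_pair (hp : Pt V p) {f g : G} (hf : f ∈ C p) (hm : Mov (U p) p f) (hg : g ∈ C p)
    (hm' : Mov (U p) p g) {u : G} (hu : u ∈ U p) (hu1 : ¬ Cg p u 1) :
    f⁻¹ * g ∈ Q U C p ∨ f * g ∈ Q U C p := by
  have hpp := h.pp hp
  have hcp := h.c_comm hp hf
  have hcg := h.c_comm hp hg
  have hcf : f⁻¹ * p = p * f⁻¹ := (show Commute f p from hcp).inv_left
  have hw := h.conj_memU hp hf hu
  have hw1 := h.conj_notCg hp hf hu1
  have hwu := hm u hu hu1
  have hgu := h.conj_memU hp hg hu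
  have s1 := h.mov_sq hp hf hm hu hu1
  have s2 := h.mov_sq hp hg hm' hu hu1
  have hpu : p * u = u * p := h.commU hp (h.p_mem hp hp) hu
  rcases h.four hp hu hu1 hw hw1 hwu hgu with e | e | e | e
  · exact absurd e (h.conj_notCg hp hg hu1)
  · exact absurd e (hm' u hu hu1)
  · left
    -- `g u = f u`, `g (f u) = g (g u) = u * g u = u * f u = f (f u)`
    have a1 : Cg p (f⁻¹ * g * u * (f⁻¹ * g)⁻¹) u := by
      have := e.conj hcf
      have e1 : f⁻¹ * (g * u * g⁻¹) * f⁻¹⁻¹ = f⁻¹ * g * u * (f⁻¹ * g)⁻¹ := by group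
      have e2 : f⁻¹ * (f * u * f⁻¹) * f⁻¹⁻¹ = u := by group
      rwa [e1, e2] at this
    have a2 : Cg p (g * (f * u * f⁻¹) * g⁻¹) (f * (f * u * f⁻¹) * f⁻¹) := by
      have b1 := (e.symm hpp).conj hcg
      have b2 := b1.trans hpp s2
      have b3 : Cg p (u * (g * u * g⁻¹)) (u * (f * u * f⁻¹)) := (Cg.refl p u).mul hpp hpu e
      exact (b2.trans hpp b3).trans hpp (s1.symm hpp)
    have a3 : Cg p (f⁻¹ * g * (f * u * f⁻¹) * (f⁻¹ * g)⁻¹) (f * u * f⁻¹) := by
      have := a2.conj hcf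
      have e1 : f⁻¹ * (g * (f * u * f⁻¹) * g⁻¹) * f⁻¹⁻¹ = f⁻¹ * g * (f * u * f⁻¹) * (f⁻¹ * g)⁻¹ := by group
      have e2 : f⁻¹ * (f * (f * u * f⁻¹) * f⁻¹) * f⁻¹⁻¹ = f * u * f⁻¹ := by group
      rwa [e1, e2] at this
    exact h.mem_Q_of_fix hp (mul_mem (inv_mem hf) hg) hu hu1 hw hw1 hwu a1 a3
  · right
    -- `g u = u * f u`
    have hfuw : Cg p (f * (u * (f * u * f⁻¹)) * f⁻¹) u := by
      have b1 := h.mul_conj hp hw (Cg.refl p (f * u * f⁻¹)) s1
      have e3 : (f * u * f⁻¹) * (u * (f * u * f⁻¹)) = u := by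
        rw [h.commU hp hw (mul_mem hu hw), mul_assoc, h.sqU p hp _ hw, mul_one]
      rwa [e3] at b1
    have a1 : Cg p (f * g * u * (f * g)⁻¹) u := by
      have := (e.conj hcp).trans hpp hfuw
      have e1 : f * (g * u * g⁻¹) * f⁻¹ = f * g * u * (f * g)⁻¹ := by group
      rwa [e1] at this
    -- `g (u * f u) = g (g u) = u * g u = f u`
    have a2 : Cg p (g * (u * (f * u * f⁻¹)) * g⁻¹) (f * u * f⁻¹) := by
      have b1 := (e.symm hpp).conj hcg
      have b2 := b1.trans hpp s2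
      have b3 : Cg p (u * (g * u * g⁻¹)) (u * (u * (f * u * f⁻¹))) := (Cg.refl p u).mul hpp hpu e
      have e3 : u * (u * (f * u * f⁻¹)) = f * u * f⁻¹ := by
        rw [← mul_assoc, h.sqU p hp u hu, one_mul]
      rw [e3] at b3
      exact b2.trans hpp b3
    -- `g (f u) = g u * g (u * f u) = (u * f u) * f u = u`
    have a3 : Cg p (g * (f * u * f⁻¹) * g⁻¹) u := by
      have b1 := h.mul_conj hp (mul_mem hu hw) e a2
      have e3 : u * (u * (f * u * f⁻¹)) = f * u * f⁻¹ := by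
        rw [← mul_assoc, h.sqU p hp u hu, one_mul]
      have e4 : u * (f * u * f⁻¹) * (f * u * f⁻¹) = u := by rw [mul_assoc, h.sqU p hp _ hw, mul_one]
      rwa [e3, e4] at b1
    have a4 : Cg p (f * g * (f * u * f⁻¹) * (f * g)⁻¹) (f * u * f⁻¹) := by
      have := a3.conj hcp
      have e1 : f * (g * (f * u * f⁻¹) * g⁻¹) * f⁻¹ = f * g * (f * u * f⁻¹) * (f * g)⁻¹ := by group
      rwa [e1] at this
    exact h.mem_Q_of_fix hp (mul_mem hf hg) hu hu1 hw hw1 hwu a1 a4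

theorem Mov_conj (hp : Pt V p) {f c : G} (hc : c ∈ C p) (hm : Mov (U p) p f) :
    Mov (U p) p (c * f * c⁻¹) := by
  intro u hu hu1 e
  have hcp := h.c_comm hp hc
  have hcp' : c⁻¹ * p = p * c⁻¹ := (show Commute c p from hcp).inv_left
  have hcC : c⁻¹ ∈ C p := inv_mem hc
  refine hm (c⁻¹ * u * c⁻¹⁻¹) (h.conj_memU hp hcC hu) (h.conj_notCg hp hcC hu1) ?_
  have h1 := e.conj hcp'
  have e1 : c⁻¹ * (c * f * c⁻¹ * u * (c * f * c⁻¹)⁻¹) * c⁻¹⁻¹ = f * (c⁻¹ * u * c⁻¹⁻¹) * f⁻¹ := by group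
  rwa [e1] at h1

theorem cg_of_mem_V (hp : Pt V p) (hq : Pt V q) (hpq : p ≠ q) {v : G} (hv : v ∈ V) : Cg p v 1 ∨ Cg p v q := by
  rcases h.mem_V hp hq hpq hv with e | e | e | e
  · left; left; exact e
  · left; right; rw [e, mul_one]
  · right; left; exact e
  · right; right; exact e

/-- a moving element moves `V ∖ ⟨p⟩` out of `V` -/
theorem conj_notMem_V (hp : Pt V p) (hq : Pt V q) (hpq : p ≠ q) {f v : G} (hf : f ∈ C p)
    (hm : Mov (U p) p f) (hv : v ∈ V) (hv1 : ¬ Cg p v 1) : f * v * f⁻¹ ∉ V := by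
  intro e
  have hpp := h.pp hp
  have h1 := (h.cg_of_mem_V hp hq hpq hv).resolve_left hv1
  rcases h.cg_of_mem_V hp hq hpq e with h2 | h2
  · exact h.conj_notCg hp hf hv1 h2
  · exact hm v (h.V_le p hp hv) hv1 (h2.trans hpp (h1.symm hpp))

/-- `t ∈ U_q ∖ V` inverts the moving elements modulo `Q_p` -/
theorem inv_pair (hp : Pt V p) (hq : Pt V q) (hpq : p ≠ q) {f t : G} (hf : f ∈ C p)
    (hm : Mov (U p) p f) (ht : t ∈ U q) (htV : t ∉ V) : t * f * t⁻¹ * f ∈ Q U C p := by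
  have hpp := h.pp hp
  have htC := h.U_le_C hp hq ht
  have htQ := h.notMem_Q hp hq hpq ht htV
  have hqU := h.p_mem hq hp
  have hq1 := h.not_cg hq hpq
  rcases h.mov_pair hp (mul_mem (mul_mem htC hf) (inv_mem htC)) (h.Mov_conj hp htC hm) hf hm hqU hq1 with e | e
  · exfalso
    have hfC : f⁻¹ ∈ C p := inv_mem hf
    have htC' : t⁻¹ ∈ C p := inv_mem htC
    set c := (t * f * t⁻¹)⁻¹ * f with hc
    have hw := h.conj_memU hp hfC hqU
    have hw1 := h.conj_notCg hp hfC hq1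
    have hwq : ¬ Cg p (f⁻¹ * q * f⁻¹⁻¹) q := by
      intro e1
      refine hm q hqU hq1 ?_
      have h1 := (e1.conj (h.c_comm hp hf)).symm hpp
      have e2 : f * (f⁻¹ * q * f⁻¹⁻¹) * f⁻¹ = q := by group
      rwa [e2] at h1
    have htq : t⁻¹ * q * t⁻¹⁻¹ = q := by
      rw [h.commU hq (inv_mem ht) (h.p_mem hq hq), mul_inv_cancel_right]
    -- `t⁻¹ c` fixes `w`
    have h1 : Cg p (t⁻¹ * (f⁻¹ * q * f⁻¹⁻¹) * t⁻¹⁻¹) (f⁻¹ * q * f⁻¹⁻¹) := by
      have h2 := (((h.mem_Q_iff' hp).mp e).2 _ hw).conj (h.c_comm hp htC')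
      have e3 : t⁻¹ * (c * (f⁻¹ * q * f⁻¹⁻¹) * c⁻¹) * t⁻¹⁻¹ = f⁻¹ * (t⁻¹ * q * t⁻¹⁻¹) * f⁻¹⁻¹ := by
        rw [hc]; group
      rw [e3, htq] at h2
      exact h2.symm hpp
    have h2 := h.mem_Q_of_fix hp htC' hqU hq1 hw hw1 hwq (Or.inl htq) h1
    exact htQ (by simpa using inv_mem h2)
  · exact e

/-- every element of `C p` is, modulo powers of a moving element, in `N_G(V)` -/
theorem exists_pow (hp : Pt V p) (hq : Pt V q) (hpq : p ≠ q) {f : G} (hf : f ∈ C p)
    (hm : Mov (U p) p f) {c : G} (hc : c ∈ C p) : ∃ i : ℕ, i < 3 ∧ Cg p (f ^ i * c * q * (f ^ i * c)⁻¹) q := by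
  have hpp := h.pp hp
  have hcp := h.c_comm hp hf
  have hqU := h.p_mem hq hp
  have hq1 := h.not_cg hq hpq
  have hw := h.conj_memU hp hf hqU
  have hw1 := h.conj_notCg hp hf hq1
  have hwq := hm q hqU hq1
  have hf3 := ((h.mem_Q_iff' hp).mp (h.mov_cube hp hf hm)).2 q hqU
  have e3 : f ^ 3 * q * (f ^ 3)⁻¹ = f * (f * (f * q * f⁻¹) * f⁻¹) * f⁻¹ := by
    rw [pow_succ, pow_two]; group
  rw [e3] at hf3
  rcases h.four hp hqU hq1 hw hw1 hwq (h.conj_memU hp hc hqU) with e | e | e | e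
  · exact absurd e (h.conj_notCg hp hc hq1)
  · refine ⟨0, by norm_num, ?_⟩
    rw [pow_zero, one_mul]; exact e
  · refine ⟨2, by norm_num, ?_⟩
    have h1 := ((e.conj hcp).conj hcp).trans hpp hf3
    have e4 : f * (f * (c * q * c⁻¹) * f⁻¹) * f⁻¹ = f ^ 2 * c * q * (f ^ 2 * c)⁻¹ := by
      rw [pow_two]; group
    rwa [e4] at h1
  · refine ⟨1, by norm_num, ?_⟩
    have h1 := ((e.trans hpp ((h.mov_sq hp hf hm hqU hq1).symm hpp)).conj hcp).trans hpp hf3
    have e4 : f * (c * q * c⁻¹) * f⁻¹ = f ^ 1 * c * q * (f ^ 1 * c)⁻¹ := by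
      rw [pow_one]; group
    rwa [e4] at h1

/-- fixing the class of `q` means normalising `V` -/
theorem mem_normalizer_V (hp : Pt V p) (hq : Pt V q) (hpq : p ≠ q) {c : G} (hc : c ∈ C p)
    (e : Cg p (c * q * c⁻¹) q) : c ∈ normalizer (V : Set G) := by
  have hpp := h.pp hp
  have key : ∀ d : G, d ∈ C p → Cg p (d * q * d⁻¹) q → ∀ v ∈ V, d * v * d⁻¹ ∈ V := by
    intro d hd e v hv
    have hdp := h.c_comm hp hd
    have h1 : ∀ x y : G, Cg p x y → y ∈ V → x ∈ V := by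
      rintro x y (rfl | rfl) hy
      · exact hy
      · exact mul_mem hp.1 hy
    rcases h.cg_of_mem_V hp hq hpq hv with h2 | h2
    · refine h1 _ _ (h2.conj hdp) ?_
      rw [mul_one, mul_inv_cancel]; exact one_mem V
    · exact h1 _ _ ((h2.conj hdp).trans hpp e) hq.1
  refine mem_normalizer_of (key c hc e) (fun v hv => ?_)
  have hc' : c⁻¹ ∈ C p := inv_mem hc
  have h2 : Cg p (c⁻¹ * q * c⁻¹⁻¹) q := by
    have h3 := (e.conj (h.c_comm hp hc')).symm hpp
    have e4 : c⁻¹ * (c * q * c⁻¹) * c⁻¹⁻¹ = q := by group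
    rwa [e4] at h3
  have := key c⁻¹ hc' h2 v hv
  rwa [inv_inv] at this

theorem Q_le_normV (hp : Pt V p) (hq : Pt V q) (hpq : p ≠ q) : Q U C p ≤ normalizer (V : Set G) :=
  fun _ hc => h.mem_normalizer_V hp hq hpq ((h.mem_Q_iff' hp).mp hc).1
    (((h.mem_Q_iff' hp).mp hc).2 q (h.p_mem hq hp))

/-- another point of `V` -/
theorem exists_other (hp : Pt V p) : ∃ q, Pt V q ∧ p ≠ q := by
  by_contra hcon
  push Not at hcon
  have h1 : V ≤ zpowers p := by
    intro v hv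
    by_cases hv1 : v = 1
    · rw [hv1]; exact one_mem _
    · rw [← hcon v ⟨hv, hv1⟩]; exact mem_zpowers p
  have hfin : Finite (zpowers p) := (finite_zpowers (a := p)).mpr
    (isOfFinOrder_iff_pow_eq_one.mpr ⟨2, by norm_num, by rw [pow_two]; exact h.pp hp⟩)
  have h2 := Subgroup.card_le_of_le h1
  rw [h.cardV] at h2
  have h3 : Nat.card (zpowers p) ≤ 2 := by
    rw [Nat.card_zpowers]
    exact orderOf_le_of_pow_eq_one (by norm_num) (by rw [pow_two]; exact h.pp hp)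
  omega

/-- squares of elements of `Q p` -/
theorem sq_mem_K (hp : Pt V p) {g : G} (hg : g ∈ Q U C p) : g * g ∈ K U p := by
  refine mem_centralizer_iff.mpr fun u hu => ?_
  have h2 := ((h.mem_Q_iff hp).mp hg).2
  have hc := h.c_comm hp hg.1
  have h3 : g * g * u * (g * g)⁻¹ = u := by
    have e : g * g * u * (g * g)⁻¹ = g * (g * u * g⁻¹) * g⁻¹ := by group
    rw [e]
    rcases h2 u hu with h4 | h4
    · rw [h4, h4]
    · rw [h4]
      calc g * (p * u) * g⁻¹ = (g * p) * g⁻¹ * (g * u * g⁻¹) := by group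
        _ = p * (p * u) := by rw [hc, mul_inv_cancel_right, h4]
        _ = u := by rw [← mul_assoc, h.pp hp, one_mul]
  rw [mul_inv_eq_iff_eq_mul] at h3
  exact h3.symm

/-- squares of elements of `C_G(V)` -/
theorem sq_mem_K' (hp : Pt V p) {g : G} (hg : g ∈ centralizer (V : Set G)) : g * g ∈ K U p := by
  refine mem_centralizer_iff.mpr fun u hu => ?_
  have h1 := h.D_act hp hg hu
  have h2 := mem_centralizer_iff.mp hg _ h1
  set v := g * u * g⁻¹ * u⁻¹ with hv
  have h3 : g * u * g⁻¹ = v * u := by rw [hv]; group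
  have h4 : g * g * u * (g * g)⁻¹ = u := by
    calc g * g * u * (g * g)⁻¹ = g * (g * u * g⁻¹) * g⁻¹ := by group
      _ = g * (v * u) * g⁻¹ := by rw [h3]
      _ = (g * v) * g⁻¹ * (g * u * g⁻¹) := by group
      _ = (v * g) * g⁻¹ * (v * u) := by rw [← h2, h3]
      _ = (v * v) * u := by group
      _ = u := by rw [h.sqV v h1, one_mul]
  rw [mul_inv_eq_iff_eq_mul] at h4
  exact h4.symm

theorem oddGen_eq (hp : Pt V p) : oddGen (centralizer (V : Set G)) = oddGen (K U p) := by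
  apply le_antisymm
  · rw [oddGen_def, closure_le]
    rintro g ⟨hg, ho⟩
    exact mem_oddGen (mem_of_sq_odd ho (h.sq_mem_K' hp hg)) ho
  · exact Cfsg.Agent.MinSimple.VModule.oddGen_mono (h.K_le_centV hp)

theorem C_le_normO (hp : Pt V p) :
    C p ≤ normalizer (oddGen (centralizer (V : Set G)) : Set G) := by
  rw [h.oddGen_eq hp]
  exact (h.C_le_normK hp).trans (Cfsg.Agent.MinSimple.VModule.normalizer_le_normalizer_oddGen _)

theorem exists_odd (hp : Pt V p) : ∃ f ∈ C p, Odd (orderOf f) ∧ Mov (U p) p f := by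
  obtain ⟨f, hf, ⟨n, hn⟩, hfQ⟩ := h.three p hp
  have ho : Odd (orderOf f) := Odd.of_dvd_nat (Odd.pow (by decide)) (orderOf_dvd_of_pow_eq_one hn)
  exact ⟨f, hf, ho, h.mov_of_odd hp hf ho hfQ⟩

end Act2

section Fin

variable [Finite G]

include h

theorem oddGen_centV (hp : Pt V p) : oddGen (centralizer (V : Set G)) = ⊥ := by
  set O := oddGen (centralizer (V : Set G)) with hO
  have hOC : O ≤ C p := (oddGen_le _).trans (h.centV_le hp)
  have hcj : ∀ c ∈ normalizer (O : Set G), c ∈ normalizer (o2 O : Set G) := by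
    intro c hc
    rw [mem_normalizer_iff_cj, cj_o2, mem_normalizer_iff_cj.mp hc]
  have hnC : normalizer (V : Set G) ≤ normalizer (centralizer (V : Set G) : Set G) := by
    refine le_normalizer_of_forall fun n hn d hd => mem_centralizer_iff.mpr fun v hv => ?_
    have h1 : n⁻¹ * v * n ∈ V := conj_mem_of_normalizer' (le_refl _) hn hv
    have h2 := mem_centralizer_iff.mp hd _ h1
    calc v * (n * d * n⁻¹) = n * ((n⁻¹ * v * n) * d) * n⁻¹ := by group
      _ = n * (d * (n⁻¹ * v * n)) * n⁻¹ := by rw [h2]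
      _ = n * d * n⁻¹ * v := by group
  have h1 : o2 O = ⊥ := by
    refine h.nl _ (o2_isPGroup O) (fun n hn => hcj _ ?_) fun r hr c hc => hcj _ (h.C_le_normO hr hc)
    exact Cfsg.Agent.MinSimple.VModule.normalizer_le_normalizer_oddGen _ (hnC hn)
  have h2 : O ≤ centralizer (o2 (C p) : Set G) := by
    intro o ho
    refine mem_centralizer_iff.mpr fun w hw => ?_
    have h3 : O ⊓ o2 (C p) ≤ o2 O := by
      refine Block.le_o2 ((o2_isPGroup (C p)).to_le inf_le_right) inf_le_left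
        (le_normalizer_of_forall fun l hl m hm => inf_mk (mul_mem (mul_mem hl hm.1) (inv_mem hl))
          (o2_conj (hOC hl) hm.2))
    have h4 : o * w * o⁻¹ * w⁻¹ ∈ O ⊓ o2 (C p) := by
      refine inf_mk ?_ (mul_mem (o2_conj (hOC ho) hw) (inv_mem hw))
      have e : o * w * o⁻¹ * w⁻¹ = o * (w * o⁻¹ * w⁻¹) := by group
      rw [e]
      exact mul_mem ho (conj_mem_of_normalizer (h.C_le_normO hp) (Block.o2_le _ hw) (inv_mem ho))
    have h5 := h3 h4
    rw [h1, mem_bot, mul_inv_eq_one, mul_inv_eq_iff_eq_mul] at h5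
    exact h5.symm
  have h3 : O ≤ o2 (C p) := fun o ho => h.char2 p hp ⟨hOC ho, h2 ho⟩
  have h4 : IsPGroup 2 O := (o2_isPGroup (C p)).to_le h3
  rw [hO, oddGen_def, closure_eq_bot_iff]
  rintro x ⟨hx, ho⟩
  have hxO : x ∈ O := mem_oddGen hx ho
  obtain ⟨k, hk⟩ := h4 ⟨x, hxO⟩
  have hk' : x ^ 2 ^ k = 1 := congrArg Subtype.val hk
  have h5 := orderOf_dvd_of_pow_eq_one hk'
  have h6 : orderOf x = 1 := Nat.Coprime.eq_one_of_dvd
    (Nat.Coprime.pow_right k (Nat.coprime_two_right.mpr ho)) h5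
  exact orderOf_eq_one_iff.mp h6

/-- (A7) -/
theorem isPGroup_centV' (hp : Pt V p) : IsPGroup 2 ↥(centralizer (V : Set G)) := by
  rintro ⟨g, hg⟩
  obtain ⟨a, m, hm, ham⟩ := Nat.exists_eq_two_pow_mul_odd (n := orderOf g) (orderOf_pos g).ne'
  refine ⟨a, Subtype.ext ?_⟩
  change g ^ 2 ^ a = 1
  have h1 : orderOf (g ^ 2 ^ a) = m := by
    rw [orderOf_pow' g (by positivity), ham, Nat.gcd_eq_right (Dvd.intro m rfl),
      Nat.mul_div_cancel_left m (by positivity)]
  have h2 : g ^ 2 ^ a ∈ oddGen (centralizer (V : Set G)) :=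
    mem_oddGen (pow_mem hg _) (by rw [h1]; exact hm)
  rw [h.oddGen_centV hp] at h2
  exact mem_bot.mp h2

theorem isPGroup_K (hp : Pt V p) : IsPGroup 2 ↥(K U p) :=
  (h.isPGroup_centV' hp).to_le (h.K_le_centV hp)

theorem isPGroup_Q (hp : Pt V p) : IsPGroup 2 ↥(Q U C p) := by
  rintro ⟨g, hg⟩
  obtain ⟨k, hk⟩ := h.isPGroup_K hp ⟨g * g, h.sq_mem_K hp hg⟩
  refine ⟨k + 1, Subtype.ext ?_⟩
  have hk' : (g * g) ^ 2 ^ k = 1 := congrArg Subtype.val hk
  change g ^ 2 ^ (k + 1) = 1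
  rw [pow_succ', pow_mul, pow_two, hk']

end Fin

end NTri

end Cfsg.Agent.Omega.NO3S.Fit.MTri

end

section


/-!
# The natural block: `W = U_p U_q U_r`, an element of order 3 of `N_G(V)` centralising `C_G(V) / W`

Blueprint `P21-NatBlock-helper789.md`, (A4), (A9).
-/

set_option autoImplicit false
set_option linter.unusedSectionVars false

namespace Cfsg.Agent.Omega.NO3S.Fit.MTri

open Subgroup Cfsg Cfsg.Agent.ZN Cfsg.Agent.MinSimple.Geo
open Cfsg.Agent.Classification.TitsFin.Tri (Pt kst cj_kst K Q)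
open Cfsg.Agent.ZN.Block (conj_mem_of_normalizer conj_mem_of_normalizer' le_normalizer_of_forall
  mem_normalizer_of card_sup_mul_card_inf card_mul_relIndex' mul_mem_of_relIndex_two o2_le o2_conj o2_isPGroup
  le_o2 le_normalizer_o2)

universe u

variable {G : Type u} [Group G]

/-- `W = U_p U_q U_r` -/
def WW (V : Subgroup G) (U : G → Subgroup G) : Subgroup G := ⨆ p, ⨆ (_ : Pt V p), U p

/-- the elements of `N_G(V)` centralising `C_G(V) / W` -/
def NW (V W : Subgroup G) (hW : normalizer (V : Set G) ≤ normalizer (W : Set G)) : Subgroup G where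
  carrier := {n | n ∈ normalizer (V : Set G) ∧ ∀ d ∈ centralizer (V : Set G), d * n * d⁻¹ * n⁻¹ ∈ W}
  mul_mem' := by
    rintro m n ⟨hm, hm2⟩ ⟨hn, hn2⟩
    refine ⟨mul_mem hm hn, fun d hd => ?_⟩
    have e : d * (m * n) * d⁻¹ * (m * n)⁻¹ = (d * m * d⁻¹ * m⁻¹) * (m * (d * n * d⁻¹ * n⁻¹) * m⁻¹) := by group
    rw [e]
    exact mul_mem (hm2 d hd) (conj_mem_of_normalizer hW hm (hn2 d hd))
  one_mem' := ⟨one_mem _, fun d _ => by simp⟩
  inv_mem' := by
    rintro m ⟨hm, hm2⟩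
    refine ⟨inv_mem hm, fun d hd => ?_⟩
    have e : d * m⁻¹ * d⁻¹ * m⁻¹⁻¹ = m⁻¹ * (d * m * d⁻¹ * m⁻¹)⁻¹ * m := by group
    rw [e]
    exact conj_mem_of_normalizer' hW hm (inv_mem (hm2 d hd))

/-- the three points -/
structure Tr (V : Subgroup G) (p q r : G) : Prop where
  hp : Pt V p
  hq : Pt V q
  hr : Pt V r
  npq : p ≠ q
  npr : p ≠ r
  nqr : q ≠ r
  eq : p * q = r

/-- the commutator `[d, a]` -/
def dl (d a : G) : G := d * a * d⁻¹ * a⁻¹

namespace NTri

variable {V : Subgroup G} {U C : G → Subgroup G}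

variable (h : NTri V U C) {p q r : G}

include h

theorem tr (hp : Pt V p) (hq : Pt V q) (hpq : p ≠ q) : Tr V p q (p * q) := by
  obtain ⟨h1, h2, h3⟩ := h.third hp hq hpq
  exact ⟨hp, hq, h1, hpq, h2.symm, h3.symm, rfl⟩

theorem rot (t : Tr V p q r) : Tr V q r p := by
  refine ⟨t.hq, t.hr, t.hp, t.nqr, t.npq.symm, t.npr.symm, ?_⟩
  rw [← t.eq, h.commV t.hp t.hq, ← mul_assoc, h.pp t.hq, one_mul]

theorem swp (t : Tr V p q r) : Tr V q p r :=
  ⟨t.hq, t.hp, t.hr, t.npq.symm, t.nqr, t.npr, by rw [← t.eq, h.commV t.hq t.hp]⟩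

theorem comm' (t : Tr V p q r) {a b : G} (ha : a ∈ U p) (haV : a ∉ V) (hb : b ∈ U q) (hbV : b ∉ V) :
    a * b * a⁻¹ * b⁻¹ = r := by rw [← t.eq]; exact h.comm_eq t.hp t.hq t.npq ha haV hb hbV

theorem conj' (t : Tr V p q r) {a b : G} (ha : a ∈ U p) (haV : a ∉ V) (hb : b ∈ U q) (hbV : b ∉ V) :
    a * b * a⁻¹ = r * b := by rw [← h.comm' t ha haV hb hbV]; group

theorem swap' (t : Tr V p q r) {a b : G} (ha : a ∈ U p) (haV : a ∉ V) (hb : b ∈ U q) (hbV : b ∉ V) :
    a * b = r * (b * a) := by rw [← h.comm' t ha haV hb hbV]; group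

theorem mem_V' (t : Tr V p q r) {v : G} (hv : v ∈ V) : v = 1 ∨ v = p ∨ v = q ∨ v = r := by
  rw [← t.eq]; exact h.mem_V t.hp t.hq t.npq hv

theorem vcomm {v d : G} (hv : v ∈ V) (hd : d ∈ centralizer (V : Set G)) : v * d = d * v :=
  mem_centralizer_iff.mp hd v hv

theorem V_comm {v w : G} (hv : v ∈ V) (hw : w ∈ V) : v * w = w * v := by
  have h1 := inv_eq_self (h.sqV v hv)
  have h2 := inv_eq_self (h.sqV w hw)
  have h3 := inv_eq_self (h.sqV _ (mul_mem hv hw))
  rw [mul_inv_rev, h1, h2] at h3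
  exact h3.symm

theorem V_le_centV : V ≤ centralizer (V : Set G) := fun _ hv => mem_centralizer_iff.mpr fun _ hw =>
  h.V_comm hw hv

/-! ### the group `W` -/

theorem U_le_W (hp : Pt V p) : U p ≤ WW V U := le_iSup₂_of_le p hp le_rfl

theorem V_le_W (hp : Pt V p) : V ≤ WW V U := (h.V_le p hp).trans (h.U_le_W hp)

theorem W_le {X : Subgroup G} (hX : ∀ p, Pt V p → U p ≤ X) : WW V U ≤ X := iSup₂_le hX

theorem W_le_centV : WW V U ≤ centralizer (V : Set G) := h.W_le fun _ hp => h.U_le_centV hp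

theorem pt_conj {n : G} (hn : n ∈ normalizer (V : Set G)) (hp : Pt V p) : Pt V (n * p * n⁻¹) := by
  refine ⟨(mem_normalizer_iff.mp hn p).mp hp.1, fun e => hp.2 ?_⟩
  rw [mul_inv_eq_one] at e
  exact mul_eq_left.mp e

theorem conj_V {n v : G} (hn : n ∈ normalizer (V : Set G)) (hv : v ∈ V) : n * v * n⁻¹ ∈ V :=
  (mem_normalizer_iff.mp hn v).mp hv

theorem conj_notV {n v : G} (hn : n ∈ normalizer (V : Set G)) (hv : v ∉ V) : n * v * n⁻¹ ∉ V :=
  fun e => hv ((mem_normalizer_iff.mp hn v).mpr e)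

theorem conj_U {n v : G} (hn : n ∈ normalizer (V : Set G)) (hp : Pt V p) (hv : v ∈ U p) :
    n * v * n⁻¹ ∈ U (n * p * n⁻¹) := by
  rw [← h.conjU n hn p hp]; exact ⟨v, hv, rfl⟩

theorem norm_W : normalizer (V : Set G) ≤ normalizer (WW V U : Set G) := by
  refine le_normalizer_of_forall fun n hn x hx => ?_
  have h1 : WW V U ≤ cj n⁻¹ (WW V U) := by
    refine h.W_le fun p hp y hy => ?_
    rw [mem_cj]
    have h2 : n⁻¹⁻¹ * y * n⁻¹ ∈ U (n * p * n⁻¹) := by rw [inv_inv]; exact h.conj_U hn hp hy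
    exact h.U_le_W (h.pt_conj hn hp) h2
  have h2 := mem_cj.mp (h1 hx)
  rwa [inv_inv] at h2

theorem W_eq (t : Tr V p q r) : WW V U = (U p ⊔ U q) ⊔ U r := by
  apply le_antisymm
  · refine h.W_le fun x hx => ?_
    rcases h.mem_V' t hx.1 with e | e | e | e
    · exact absurd e hx.2
    · rw [e]; exact le_sup_left.trans le_sup_left
    · rw [e]; exact le_sup_right.trans le_sup_left
    · rw [e]; exact le_sup_right
  · exact sup_le (sup_le (h.U_le_W t.hp) (h.U_le_W t.hq)) (h.U_le_W t.hr)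

theorem U_norm_U (hp : Pt V p) (hq : Pt V q) : U p ≤ normalizer (U q : Set G) :=
  (h.U_le_C hq hp).trans (h.C_norm q hq)

theorem exists_mul (t : Tr V p q r) {x : G} (hx : x ∈ WW V U) :
    ∃ x1 ∈ U p, ∃ x2 ∈ U q, ∃ x3 ∈ U r, x = x1 * x2 * x3 := by
  rw [h.W_eq t, sup_comm] at hx
  have hn : U r ≤ normalizer ((U p ⊔ U q : Subgroup G) : Set G) := by
    refine le_normalizer_of_forall fun n hn x hx => ?_
    have h1 : U p ⊔ U q ≤ cj n⁻¹ (U p ⊔ U q) := by
      refine sup_le (fun y hy => ?_) (fun y hy => ?_)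
      · rw [mem_cj, inv_inv]
        exact (le_sup_left : U p ≤ U p ⊔ U q) (conj_mem_of_normalizer (h.U_norm_U t.hr t.hp) hn hy)
      · rw [mem_cj, inv_inv]
        exact (le_sup_right : U q ≤ U p ⊔ U q) (conj_mem_of_normalizer (h.U_norm_U t.hr t.hq) hn hy)
    have h2 := mem_cj.mp (h1 hx)
    rwa [inv_inv] at h2
  obtain ⟨y, hy, x3, hx3, rfl⟩ := Cfsg.Agent.Solvable.Glauberman.exists_mul_of_mem_sup _ _ hn hx
  rw [sup_comm] at hy
  obtain ⟨x1, hx1, x2, hx2, rfl⟩ :=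
    Cfsg.Agent.Solvable.Glauberman.exists_mul_of_mem_sup _ _ (h.U_norm_U t.hq t.hp) hy
  exact ⟨x1, hx1, x2, hx2, x3, hx3, rfl⟩

/-- elements of `U p ∖ V` are congruent modulo `V` -/
theorem exists_V (hp : Pt V p) {a a' : G} (ha : a ∈ U p) (haV : a ∉ V) (ha' : a' ∈ U p) (haV' : a' ∉ V) :
    ∃ v ∈ V, a' = v * a := by
  refine ⟨a' * a, h.mul_memV hp ha' haV' ha haV, ?_⟩
  rw [mul_assoc, h.sqU p hp a ha, mul_one]

/-- every element of `W` is `a^i b^j c^k v` -/
theorem exists_form (t : Tr V p q r) {a b c : G} (ha : a ∈ U p) (haV : a ∉ V) (hb : b ∈ U q) (hbV : b ∉ V)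
    (hc : c ∈ U r) (hcV : c ∉ V) {x : G} (hx : x ∈ WW V U) :
    ∃ x1 x2 x3 v : G, (x1 = 1 ∨ x1 = a) ∧ (x2 = 1 ∨ x2 = b) ∧ (x3 = 1 ∨ x3 = c) ∧ v ∈ V ∧
      x = v * (x1 * x2 * x3) := by
  obtain ⟨y1, hy1, y2, hy2, y3, hy3, rfl⟩ := h.exists_mul t hx
  have key : ∀ {p a y : G}, Pt V p → a ∈ U p → a ∉ V → y ∈ U p → ∃ x v : G, (x = 1 ∨ x = a) ∧ v ∈ V ∧ y = v * x := by
    intro p a y hp ha haV hy
    by_cases hyV : y ∈ V
    · exact ⟨1, y, Or.inl rfl, hyV, by rw [mul_one]⟩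
    · obtain ⟨v, hv, e⟩ := h.exists_V hp ha haV hy hyV
      exact ⟨a, v, Or.inr rfl, hv, e⟩
  obtain ⟨x1, v1, h1, hv1, rfl⟩ := key t.hp ha haV hy1
  obtain ⟨x2, v2, h2, hv2, rfl⟩ := key t.hq hb hbV hy2
  obtain ⟨x3, v3, h3, hv3, rfl⟩ := key t.hr hc hcV hy3
  refine ⟨x1, x2, x3, v1 * v2 * v3, h1, h2, h3, mul_mem (mul_mem hv1 hv2) hv3, ?_⟩
  have hx1 : x1 ∈ centralizer (V : Set G) := by
    rcases h1 with rfl | rfl
    · exact one_mem _
    · exact h.U_le_centV t.hp ha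
  have hx2 : x2 ∈ centralizer (V : Set G) := by
    rcases h2 with rfl | rfl
    · exact one_mem _
    · exact h.U_le_centV t.hq hb
  have e1 := h.vcomm hv2 hx1
  have e2 := h.vcomm hv3 hx1
  have e3 := h.vcomm hv3 hx2
  calc v1 * x1 * (v2 * x2) * (v3 * x3) = v1 * (x1 * v2) * (x2 * v3) * x3 := by group
    _ = v1 * v2 * (x1 * v3) * x2 * x3 := by rw [← e1, ← e3]; group
    _ = v1 * v2 * v3 * (x1 * x2 * x3) := by rw [← e2]; group

theorem dl_mul {a d d' : G} (hp : Pt V p) (ha : a ∈ U p) (hd : d ∈ centralizer (V : Set G))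
    (hd' : d' ∈ centralizer (V : Set G)) : dl (d * d') a = dl d a * dl d' a := by
  have h1 : dl d' a ∈ V := h.D_act hp hd' ha
  have h2 := h.vcomm h1 hd
  have h3 := h.V_comm h1 (h.D_act hp hd ha)
  unfold dl at *
  calc d * d' * a * (d * d')⁻¹ * a⁻¹ = d * (d' * a * d'⁻¹ * a⁻¹) * (a * d⁻¹ * a⁻¹) := by group
    _ = (d' * a * d'⁻¹ * a⁻¹) * (d * a * d⁻¹ * a⁻¹) := by rw [← h2]; group
    _ = (d * a * d⁻¹ * a⁻¹) * (d' * a * d'⁻¹ * a⁻¹) := h3

theorem dl_mem {a d : G} (hp : Pt V p) (ha : a ∈ U p) (hd : d ∈ centralizer (V : Set G)) : dl d a ∈ V :=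
  h.D_act hp hd ha

theorem dl_one (a : G) : dl 1 a = 1 := by unfold dl; group

theorem dl_V {a v : G} (hp : Pt V p) (ha : a ∈ U p) (hv : v ∈ V) : dl v a = 1 := by
  unfold dl
  rw [h.vcomm hv (h.U_le_centV hp ha)]; group

theorem dl_self (a : G) : dl a a = 1 := by unfold dl; group

theorem dl_eq_one {d a : G} : dl d a = 1 ↔ d * a = a * d := by
  unfold dl
  rw [mul_inv_eq_one, mul_inv_eq_iff_eq_mul]

/-- `Z(W) = V` -/
theorem W_inf_cent (t : Tr V p q r) {x : G} (hx : x ∈ WW V U) (hc : ∀ y ∈ WW V U, x * y = y * x) : x ∈ V := by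
  obtain ⟨a, ha, haV⟩ := h.exists_notMem t.hp
  obtain ⟨b, hb, hbV⟩ := h.exists_notMem t.hq
  obtain ⟨c, hcU, hcV⟩ := h.exists_notMem t.hr
  obtain ⟨x1, x2, x3, v, h1, h2, h3, hv, rfl⟩ := h.exists_form t ha haV hb hbV hcU hcV hx
  have Ra : dl b a = r := h.comm' (h.swp t) hb hbV ha haV
  have Rc : dl c a = q := h.comm' (h.rot (h.rot t)) hcU hcV ha haV
  have Rb : dl a b = r := h.comm' t ha haV hb hbV
  have Ea : dl (v * (x1 * x2 * x3)) a = 1 := h.dl_eq_one.mpr (hc a (h.U_le_W t.hp ha))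
  have Eb : dl (v * (x1 * x2 * x3)) b = 1 := h.dl_eq_one.mpr (hc b (h.U_le_W t.hq hb))
  have da := h.U_le_centV t.hp ha
  have db := h.U_le_centV t.hq hb
  have dc := h.U_le_centV t.hr hcU
  have dv := h.V_le_centV hv
  have o : ∀ {x y : G}, (x = 1 ∨ x = y) → y ∈ centralizer (V : Set G) → x ∈ centralizer (V : Set G) := by
    rintro x y (rfl | rfl) hy
    · exact one_mem _
    · exact hy
  have d1 := o h1 da
  have d2 := o h2 db
  have d3 := o h3 dc
  rw [h.dl_mul t.hp ha dv (mul_mem (mul_mem d1 d2) d3), h.dl_V t.hp ha hv, one_mul,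
    h.dl_mul t.hp ha (mul_mem d1 d2) d3, h.dl_mul t.hp ha d1 d2] at Ea
  rw [h.dl_mul t.hq hb dv (mul_mem (mul_mem d1 d2) d3), h.dl_V t.hq hb hv, one_mul,
    h.dl_mul t.hq hb (mul_mem d1 d2) d3, h.dl_mul t.hq hb d1 d2] at Eb
  have e1 : dl x1 a = 1 := by
    rcases h1 with rfl | rfl
    · exact h.dl_one a
    · exact h.dl_self _
  rw [e1, one_mul] at Ea
  have e23 : x2 = 1 ∧ x3 = 1 := by
    rcases h2 with rfl | rfl
    · rcases h3 with rfl | rfl
      · exact ⟨rfl, rfl⟩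
      · rw [h.dl_one, one_mul, Rc] at Ea
        exact absurd Ea t.hq.2
    · rw [Ra] at Ea
      rcases h3 with rfl | rfl
      · rw [h.dl_one, mul_one] at Ea
        exact absurd Ea t.hr.2
      · rw [Rc, ← t.eq, mul_assoc, h.pp t.hq, mul_one] at Ea
        exact absurd Ea t.hp.2
  rw [e23.1, e23.2, h.dl_one, mul_one, mul_one] at Eb
  rw [e23.1, e23.2, mul_one, mul_one]
  rcases h1 with rfl | rfl
  · rw [mul_one]; exact hv
  · rw [Rb] at Eb
    exact absurd Eb t.hr.2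

/-! ### elements of `C p` fixing the class of `q` -/

theorem swap_class (hp : Pt V p) {c u w : G} (hc : c ∈ C p) (hcQ : c ∉ Q U C p) (hu : u ∈ U p)
    (hu1 : ¬ Cg p u 1) (h1 : Cg p (c * u * c⁻¹) u) (hw : w ∈ U p) (hw1 : ¬ Cg p w 1) (hwu : ¬ Cg p w u) :
    Cg p (c * w * c⁻¹) (u * w) := by
  have hpp := h.pp hp
  rcases h.four hp hu hu1 hw hw1 hwu (h.conj_memU hp hc hw) with e | e | e | e
  · exact absurd e (h.conj_notCg hp hc hw1)
  · exact absurd ((e.trans hpp (h1.symm hpp)).of_conj (h.c_comm hp hc)) hwu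
  · exact absurd (h.mem_Q_of_fix hp hc hu hu1 hw hw1 hwu h1 e) hcQ
  · exact e

theorem mul_mem_Q (hp : Pt V p) {c d u : G} (hc : c ∈ C p) (hcQ : c ∉ Q U C p) (hd : d ∈ C p)
    (hdQ : d ∉ Q U C p) (hu : u ∈ U p) (hu1 : ¬ Cg p u 1) (h1 : Cg p (c * u * c⁻¹) u)
    (h2 : Cg p (d * u * d⁻¹) u) : c * d ∈ Q U C p := by
  have hpp := h.pp hp
  have hcp := h.c_comm hp hc
  obtain ⟨w, hw, hw1, hwu⟩ := h.exists_indep hp hu hu1
  have a1 := h.swap_class hp hc hcQ hu hu1 h1 hw hw1 hwu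
  have a2 := h.swap_class hp hd hdQ hu hu1 h2 hw hw1 hwu
  have e : ∀ x : G, c * d * x * (c * d)⁻¹ = c * (d * x * d⁻¹) * c⁻¹ := fun x => by group
  refine h.mem_Q_of_fix hp (mul_mem hc hd) hu hu1 hw hw1 hwu ?_ ?_
  · rw [e]; exact (h2.conj hcp).trans hpp h1
  · rw [e]
    have b1 := (a2.conj hcp).trans hpp (h.mul_conj hp hu h1 a1)
    have e3 : u * (u * w) = w := by rw [← mul_assoc, h.sqU p hp u hu, one_mul]
    rwa [e3] at b1

theorem fix_of_centV {d : G} (hd : d ∈ centralizer (V : Set G)) {v : G} (hv : v ∈ V) : d * v * d⁻¹ = v := by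
  rw [← h.vcomm hv hd, mul_inv_cancel_right]

/-- two elements of `C_G(V)` outside `Q p` -/
theorem mul_mem_Q' (hp : Pt V p) {c d : G} (hc : c ∈ centralizer (V : Set G)) (hcQ : c ∉ Q U C p)
    (hd : d ∈ centralizer (V : Set G)) (hdQ : d ∉ Q U C p) : c * d ∈ Q U C p := by
  obtain ⟨q, hq, hpq⟩ := h.exists_other hp
  exact h.mul_mem_Q hp (h.centV_le hp hc) hcQ (h.centV_le hp hd) hdQ (h.p_mem hq hp) (h.not_cg hq hpq)
    (Or.inl (h.fix_of_centV hc hq.1)) (Or.inl (h.fix_of_centV hd hq.1))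

theorem e_mem_Q (t : Tr V p q r) {b c : G} (hb : b ∈ U q) (hbV : b ∉ V) (hc : c ∈ U r) (hcV : c ∉ V) :
    b * c ∈ Q U C p :=
  h.mul_mem_Q' t.hp (h.U_le_centV t.hq hb) (h.notMem_Q t.hp t.hq t.npq hb hbV) (h.U_le_centV t.hr hc)
    (h.notMem_Q t.hp t.hr t.npr hc hcV)

/-- `(u_q u_r)² = p` -/
theorem e_sq (t : Tr V p q r) {b c : G} (hb : b ∈ U q) (hbV : b ∉ V) (hc : c ∈ U r) (hcV : c ∉ V) :
    b * c * (b * c) = p := by
  have h1 := h.swap' (h.swp (h.rot t)) hc hcV hb hbV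
  have h2 := h.vcomm t.hp.1 (h.U_le_centV t.hq hb)
  calc b * c * (b * c) = b * (c * b) * c := by group
    _ = b * (p * (b * c)) * c := by rw [h1]
    _ = (b * p) * b * c * c := by group
    _ = p * (b * b) * (c * c) := by rw [← h2]; group
    _ = p := by rw [h.sqU q t.hq b hb, h.sqU r t.hr c hc, mul_one, mul_one]

theorem dl_e (t : Tr V p q r) {a b c : G} (ha : a ∈ U p) (haV : a ∉ V) (hb : b ∈ U q) (hbV : b ∉ V)
    (hc : c ∈ U r) (hcV : c ∉ V) : dl (b * c) a = p := by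
  rw [h.dl_mul t.hp ha (h.U_le_centV t.hq hb) (h.U_le_centV t.hr hc)]
  have Ra : dl b a = r := h.comm' (h.swp t) hb hbV ha haV
  have Rc : dl c a = q := h.comm' (h.rot (h.rot t)) hc hcV ha haV
  rw [Ra, Rc, ← t.eq, mul_assoc, h.pp t.hq, mul_one]

theorem fix_or_swap (t : Tr V p q r) {n : G} (hn : n ∈ normalizer (V : Set G)) (hnp : n * p * n⁻¹ = p) :
    (n ∈ centralizer (V : Set G) ∧ n * q * n⁻¹ = q ∧ n * r * n⁻¹ = r) ∨
      (n * q * n⁻¹ = r ∧ n * r * n⁻¹ = q) := by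
  have e : n * r * n⁻¹ = (n * p * n⁻¹) * (n * q * n⁻¹) := by rw [← t.eq]; group
  rw [hnp] at e
  rcases h.mem_V' t (h.conj_V hn t.hq.1) with e1 | e1 | e1 | e1
  · exact absurd e1 (h.pt_conj hn t.hq).2
  · exfalso
    apply t.npq
    have h1 := hnp.trans e1.symm
    exact mul_left_cancel (mul_right_cancel h1)
  · left
    have e2 : n * r * n⁻¹ = r := by rw [e, e1, t.eq]
    refine ⟨mem_centralizer_iff.mpr fun v hv => ?_, e1, e2⟩
    have key : n * v * n⁻¹ = v := by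
      rcases h.mem_V' t hv with rfl | rfl | rfl | rfl
      · rw [mul_one, mul_inv_cancel]
      · exact hnp
      · exact e1
      · exact e2
    exact (mul_inv_eq_iff_eq_mul.mp key).symm
  · right
    refine ⟨e1, ?_⟩
    rw [e, e1, ← t.eq, ← mul_assoc, h.pp t.hp, one_mul]

/-- `[Q_p, u_q u_r] ≤ V` -/
theorem comm_Q_e (t : Tr V p q r) {b c x : G} (hb : b ∈ U q) (hbV : b ∉ V) (hc : c ∈ U r) (hcV : c ∉ V)
    (hx : x ∈ Q U C p) : x * (b * c) * x⁻¹ * (b * c)⁻¹ ∈ V := by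
  have hxN := h.Q_le_normV t.hp t.hq t.npq hx
  have hxp : x * p * x⁻¹ = p := by
    rw [h.c_comm t.hp ((h.mem_Q_iff t.hp).mp hx).1, mul_inv_cancel_right]
  have db := h.U_le_centV t.hq hb
  have dc := h.U_le_centV t.hr hc
  have hb' := h.conj_U hxN t.hq hb
  have hc' := h.conj_U hxN t.hr hc
  have hbV' := h.conj_notV hxN hbV
  have hcV' := h.conj_notV hxN hcV
  have e : x * (b * c) * x⁻¹ * (b * c)⁻¹ = (x * b * x⁻¹) * (x * c * x⁻¹) * c⁻¹ * b⁻¹ := by group
  rw [e]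
  rcases h.fix_or_swap t hxN hxp with ⟨-, e1, e2⟩ | ⟨e1, e2⟩
  · rw [e1] at hb'
    rw [e2] at hc'
    obtain ⟨v, hv, ev⟩ := h.exists_V t.hq hb hbV hb' hbV'
    obtain ⟨w, hw, ew⟩ := h.exists_V t.hr hc hcV hc' hcV'
    rw [ev, ew]
    have e3 : v * b * (w * c) * c⁻¹ * b⁻¹ = v * (b * w) * b⁻¹ := by group
    rw [e3, ← h.vcomm hw db]
    have e4 : v * (w * b) * b⁻¹ = v * w := by group
    rw [e4]
    exact mul_mem hv hw
  · rw [e1] at hb'
    rw [e2] at hc'
    obtain ⟨v, hv, ev⟩ := h.exists_V t.hr hc hcV hb' hbV'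
    obtain ⟨w, hw, ew⟩ := h.exists_V t.hq hb hbV hc' hcV'
    rw [ev, ew]
    have h1 := h.swap' (h.swp (h.rot t)) hc hcV hb hbV
    have e3 : v * c * (w * b) * c⁻¹ * b⁻¹ = v * (c * w) * b * c⁻¹ * b⁻¹ := by group
    rw [e3, ← h.vcomm hw dc]
    have e4 : v * (w * c) * b * c⁻¹ * b⁻¹ = v * w * (c * b) * c⁻¹ * b⁻¹ := by group
    rw [e4, h1]
    have e5 : v * w * (p * (b * c)) * c⁻¹ * b⁻¹ = v * w * p := by group
    rw [e5]
    exact mul_mem (mul_mem hv hw) t.hp.1

/-- (A9) -/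
theorem exists_h (t : Tr V p q r) : ∃ x ∈ NW V (WW V U) h.norm_W, x ∈ Q U C p ∧ x * p * x⁻¹ = p ∧
    x * q * x⁻¹ = r ∧ x * r * x⁻¹ = q ∧ x * x = p := by
  obtain ⟨a, ha, haV⟩ := h.exists_notMem t.hp
  obtain ⟨b, hb, hbV⟩ := h.exists_notMem t.hq
  obtain ⟨c, hc, hcV⟩ := h.exists_notMem t.hr
  obtain ⟨f, hf, -, hfm⟩ := h.exists_odd t.hp
  have heQ := h.e_mem_Q t hb hbV hc hcV
  have hfC : f⁻¹ ∈ C p := inv_mem hf
  have hxQ : f * (b * c) * f⁻¹ ∈ Q U C p := conj_mem_of_normalizer (h.C_le_normQ t.hp) hf heQ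
  set x := f * (b * c) * f⁻¹ with hx
  have hxN := h.Q_le_normV t.hp t.hq t.npq hxQ
  have hxp : x * p * x⁻¹ = p := by
    rw [h.c_comm t.hp ((h.mem_Q_iff t.hp).mp hxQ).1, mul_inv_cancel_right]
  have hxx : x * x = p := by
    have : x * x = f * (b * c * (b * c)) * f⁻¹ := by rw [hx]; group
    rw [this, h.e_sq t hb hbV hc hcV, h.c_comm t.hp hf, mul_inv_cancel_right]
  -- `[Q_p, x] ≤ U_p`
  have hQx : ∀ y ∈ Q U C p, y * x * y⁻¹ * x⁻¹ ∈ U p := by
    intro y hy
    have h1 := h.comm_Q_e t hb hbV hc hcV (conj_mem_of_normalizer' (h.C_le_normQ t.hp) hf hy)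
    have h2 := h.conj_memU t.hp hf (h.V_le p t.hp h1)
    have e : f * ((f⁻¹ * y * f) * (b * c) * (f⁻¹ * y * f)⁻¹ * (b * c)⁻¹) * f⁻¹ = y * x * y⁻¹ * x⁻¹ := by
      rw [hx]; group
    rwa [e] at h2
  refine ⟨x, ⟨hxN, fun d hd => ?_⟩, hxQ, hxp, ?_⟩
  · by_cases hdQ : d ∈ Q U C p
    · exact h.U_le_W t.hp (hQx d hdQ)
    · have db := h.U_le_centV t.hq hb
      have h1 := h.mul_mem_Q' t.hp db (h.notMem_Q t.hp t.hq t.npq hb hbV) hd hdQ
      have h2 := h.U_le_W t.hp (hQx _ h1)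
      have hbW := h.U_le_W t.hq hb
      have e : d * x * d⁻¹ * x⁻¹ = b⁻¹ * ((b * d) * x * (b * d)⁻¹ * x⁻¹) * (x * b * x⁻¹) := by group
      rw [e]
      exact mul_mem (mul_mem (inv_mem hbW) h2) (conj_mem_of_normalizer h.norm_W hxN hbW)
  · rcases h.fix_or_swap t hxN hxp with ⟨h1, -, -⟩ | ⟨h1, h2⟩
    · exfalso
      -- `b c` commutes with `f⁻¹ q f ∉ V`
      have h2 := h.vcomm t.hq.1 h1
      have hu : f⁻¹ * q * f ∈ U p := h.conj_memU' t.hp hf (h.p_mem t.hq t.hp)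
      have huV : f⁻¹ * q * f ∉ V := by
        intro e
        refine h.conj_notMem_V t.hp t.hq t.npq hf hfm e ?_ ?_
        · intro e1
          have := h.conj_notCg t.hp hfC (h.not_cg t.hq t.npq)
          rw [inv_inv] at this
          exact this e1
        · have e2 : f * (f⁻¹ * q * f) * f⁻¹ = q := by group
          rw [e2]; exact t.hq.1
      have h3 := h.dl_e t hu huV hb hbV hc hcV
      have h4 : dl (b * c) (f⁻¹ * q * f) = 1 := by
        rw [h.dl_eq_one]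
        have e3 : b * c = f⁻¹ * x * f := by rw [hx]; group
        rw [e3]
        calc f⁻¹ * x * f * (f⁻¹ * q * f) = f⁻¹ * (x * q) * f := by group
          _ = f⁻¹ * (q * x) * f := by rw [h2]
          _ = f⁻¹ * q * f * (f⁻¹ * x * f) := by group
      exact t.hp.2 (h3.symm.trans h4)
    · exact ⟨h1, h2, hxx⟩

end NTri

end Cfsg.Agent.Omega.NO3S.Fit.MTri

end

section


/-!
# The natural block: the element of order 3 of `N_G(V)`, `C_G(W) = V`, `C_G(V) = W C(g)`

Blueprint `P21-NatBlock-helper789.md`; here the field `soc` of `NTri` is used.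
-/

set_option autoImplicit false
set_option linter.unusedSectionVars false

namespace Cfsg.Agent.Omega.NO3S.Fit.MTri

open Subgroup Cfsg Cfsg.Agent.ZN Cfsg.Agent.MinSimple.Geo
open scoped Pointwise
open Cfsg.Agent.Classification.TitsFin.Tri (Pt kst cj_kst K Q)
open Cfsg.Agent.ZN.Block (conj_mem_of_normalizer conj_mem_of_normalizer' le_normalizer_of_forall
  mem_normalizer_of card_sup_mul_card_inf card_mul_relIndex' mul_mem_of_relIndex_two o2_le o2_conj o2_isPGroup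
  le_o2 le_normalizer_o2)

universe u

variable {G : Type u} [Group G]

/-- a frame: `g` of order 3 with `p → q → r → p` and `[C_G(V), g] ≤ W`, `a ∈ U_p ∖ V` -/
structure Fr (V : Subgroup G) (U C : G → Subgroup G) (p q r g a : G) : Prop extends NTri V U C where
  t : Tr V p q r
  gN : g ∈ normalizer (V : Set G)
  g3 : g ^ 3 = 1
  gp : g * p * g⁻¹ = q
  gq : g * q * g⁻¹ = r
  gW : ∀ d ∈ centralizer (V : Set G), d * g * d⁻¹ * g⁻¹ ∈ WW V U
  ha : a ∈ U p
  haV : a ∉ V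

theorem eq_one_of_odd {g : G} (ho : Odd (orderOf g)) {n : ℕ} (hn : g ^ 2 ^ n = 1) : g = 1 := by
  have h5 := orderOf_dvd_of_pow_eq_one hn
  have h6 : orderOf g = 1 := Nat.Coprime.eq_one_of_dvd
    (Nat.Coprime.pow_right n (Nat.coprime_two_right.mpr ho)) h5
  exact orderOf_eq_one_iff.mp h6

namespace NTri

variable {V : Subgroup G} {U C : G → Subgroup G}

variable (h : NTri V U C) {p q r : G}

include h

theorem exists_frame [Finite G] (t : Tr V p q r) {a : G} (ha : a ∈ U p) (haV : a ∉ V) :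
    ∃ g, Fr V U C p q r g a := by
  obtain ⟨x, hx, -, hxp, hxq, hxr, -⟩ := h.exists_h t
  obtain ⟨y, hy, -, hyq, hyp, hyr, -⟩ := h.exists_h (h.swp t)
  -- `y` fixes `q`, swaps `p`, `r`
  set g0 := x * y with hg0
  have hg0N : g0 ∈ NW V (WW V U) h.norm_W := mul_mem hx hy
  have e1 : g0 * p * g0⁻¹ = q := by
    have : g0 * p * g0⁻¹ = x * (y * p * y⁻¹) * x⁻¹ := by rw [hg0]; group
    rw [this, hyp, hxr]
  have e2 : g0 * q * g0⁻¹ = r := by
    have : g0 * q * g0⁻¹ = x * (y * q * y⁻¹) * x⁻¹ := by rw [hg0]; group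
    rw [this, hyq, hxq]
  have e3 : g0 * r * g0⁻¹ = p := by
    have : g0 * r * g0⁻¹ = x * (y * r * y⁻¹) * x⁻¹ := by rw [hg0]; group
    rw [this, hyr, hxp]
  have hc : g0 ^ 3 ∈ centralizer (V : Set G) := by
    have key : ∀ v : G, g0 ^ 3 * v * (g0 ^ 3)⁻¹ = g0 * (g0 * (g0 * v * g0⁻¹) * g0⁻¹) * g0⁻¹ := by
      intro v; rw [pow_succ, pow_two]; group
    refine mem_centralizer_iff.mpr fun v hv => ?_
    have h1 : g0 ^ 3 * v * (g0 ^ 3)⁻¹ = v := by
      rcases h.mem_V' t hv with rfl | rfl | rfl | rfl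
      · rw [mul_one, mul_inv_cancel]
      · rw [key, e1, e2, e3]
      · rw [key, e2, e3, e1]
      · rw [key, e3, e1, e2]
    exact (mul_inv_eq_iff_eq_mul.mp h1).symm
  obtain ⟨α, m, hm, ham⟩ := Nat.exists_eq_two_pow_mul_odd (n := orderOf g0) (orderOf_pos g0).ne'
  -- `4 ^ α = 3 k + 1`
  obtain ⟨k, hk⟩ : ∃ k, 4 ^ α = 3 * k + 1 := by
    have h1 : 4 ^ α % 3 = 1 := by
      rw [Nat.pow_mod]; norm_num
    exact ⟨4 ^ α / 3, by omega⟩
  set g := g0 ^ 4 ^ α with hg
  have hgd : g = g0 * (g0 ^ 3) ^ k := by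
    rw [hg, hk, pow_succ', pow_mul]
  have hgN : g ∈ NW V (WW V U) h.norm_W := pow_mem hg0N _
  have hd : (g0 ^ 3) ^ k ∈ centralizer (V : Set G) := pow_mem hc k
  have act : ∀ v ∈ V, g * v * g⁻¹ = g0 * v * g0⁻¹ := by
    intro v hv
    have h1 := h.fix_of_centV hd hv
    calc g * v * g⁻¹ = g0 * ((g0 ^ 3) ^ k * v * ((g0 ^ 3) ^ k)⁻¹) * g0⁻¹ := by rw [hgd]; group
      _ = g0 * v * g0⁻¹ := by rw [h1]
  have ho : Odd (orderOf g) := by
    have h1 : orderOf g ∣ m := by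
      apply orderOf_dvd_of_pow_eq_one
      have h4 : (4 : ℕ) ^ α = 2 ^ α * 2 ^ α := by rw [← mul_pow]; norm_num
      rw [hg, ← pow_mul, h4]
      have : 2 ^ α * 2 ^ α * m = orderOf g0 * 2 ^ α := by rw [ham]; ring
      rw [this, pow_mul, pow_orderOf_eq_one, one_pow]
    exact Odd.of_dvd_nat hm h1
  have hg3c : g ^ 3 ∈ centralizer (V : Set G) := by
    have : g ^ 3 = (g0 ^ 3) ^ 4 ^ α := by rw [hg, ← pow_mul, ← pow_mul, mul_comm]
    rw [this]; exact pow_mem hc _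
  obtain ⟨n, hn⟩ := h.isPGroup_centV' t.hp ⟨g ^ 3, hg3c⟩
  have hn' : (g ^ 3) ^ 2 ^ n = 1 := congrArg Subtype.val hn
  have hg3 : g ^ 3 = 1 := by
    refine eq_one_of_odd ?_ hn'
    exact Odd.of_dvd_nat ho (orderOf_dvd_of_pow_eq_one (by rw [← pow_mul, mul_comm, pow_mul, pow_orderOf_eq_one, one_pow]))
  exact ⟨g, { toNTri := h, t := t, gN := hgN.1, g3 := hg3, gp := by rw [act p t.hp.1, e1]
              gq := by rw [act q t.hq.1, e2], gW := hgN.2, ha := ha, haV := haV }⟩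

end NTri

namespace Fr

variable {V : Subgroup G} {U C : G → Subgroup G} {p q r g a : G} (h : Fr V U C p q r g a)

include h

theorem gr : g * r * g⁻¹ = p := by
  have e : g * r * g⁻¹ = (g * p * g⁻¹) * (g * q * g⁻¹) := by rw [← h.t.eq]; group
  rw [e, h.gp, h.gq, (h.rot h.t).eq]

theorem g_inv : g⁻¹ = g * g := by
  have h1 : g * (g * g) = 1 := by rw [← pow_two, ← pow_succ', h.g3]
  exact inv_eq_of_mul_eq_one_right h1

theorem ggg : g * g * g = 1 := by rw [← pow_two, ← pow_succ, h.g3]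

theorem hb : g * a * g⁻¹ ∈ U q := by
  have h1 := h.conj_U h.gN h.t.hp h.ha
  rwa [h.gp] at h1

theorem hbV : g * a * g⁻¹ ∉ V := h.conj_notV h.gN h.haV

theorem hc : g * (g * a * g⁻¹) * g⁻¹ ∈ U r := by
  have h1 := h.conj_U h.gN h.t.hq h.hb
  rwa [h.gq] at h1

theorem hcV : g * (g * a * g⁻¹) * g⁻¹ ∉ V := h.conj_notV h.gN h.hbV

theorem g3a (x : G) : g * (g * (g * x * g⁻¹) * g⁻¹) * g⁻¹ = x := by
  have h1 := h.ggg
  have e : g * (g * (g * x * g⁻¹) * g⁻¹) * g⁻¹ = (g * g * g) * x * (g * g * g)⁻¹ := by group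
  rw [e, h1, one_mul, inv_one, mul_one]

/-- no nontrivial element of `V` commutes with `g` -/
theorem V_fix {v : G} (hv : v ∈ V) (hc : g * v * g⁻¹ = v) : v = 1 := by
  rcases h.mem_V' h.t hv with e | e | e | e
  · exact e
  · rw [e, h.gp] at hc; exact absurd hc h.t.npq.symm
  · rw [e, h.gq] at hc; exact absurd hc h.t.nqr.symm
  · rw [e, h.gr] at hc; exact absurd hc h.t.npr

theorem ga_W {x : G} (hx : x ∈ WW V U) : g * x * g⁻¹ ∈ WW V U := conj_mem_of_normalizer h.norm_W h.gN hx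

theorem g_ne : g ≠ 1 := by
  intro e
  have h1 := h.gp
  rw [e, one_mul, inv_one, mul_one] at h1
  exact h.t.npq h1

theorem mem_zpowers_g {y : G} (hy : y ∈ zpowers g) : y = 1 ∨ y = g ∨ y = g * g := by
  obtain ⟨k, rfl⟩ := mem_zpowers_iff.mp hy
  have h1 : g ^ k = g ^ (k % 3) := by
    conv_lhs => rw [← Int.mul_ediv_add_emod k 3, zpow_add, zpow_mul]
    have : g ^ (3 : ℤ) = 1 := by exact_mod_cast h.g3
    rw [this, one_zpow, one_mul]
  have h2 : 0 ≤ k % 3 := Int.emod_nonneg _ (by norm_num)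
  have h3 : k % 3 < 3 := Int.emod_lt_of_pos _ (by norm_num)
  rw [h1]
  interval_cases (k % 3)
  · left; exact zpow_zero g
  · right; left; exact zpow_one g
  · right; right; exact zpow_two g

theorem orderOf_g : orderOf g = 3 := orderOf_eq_prime h.g3 h.g_ne

theorem centV_norm : normalizer (V : Set G) ≤ normalizer (centralizer (V : Set G) : Set G) := by
  refine le_normalizer_of_forall fun n hn d hd => mem_centralizer_iff.mpr fun v hv => ?_
  have h1 : n⁻¹ * v * n ∈ V := conj_mem_of_normalizer' (le_refl _) hn hv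
  have h2 := h.vcomm h1 hd
  calc v * (n * d * n⁻¹) = n * ((n⁻¹ * v * n) * d) * n⁻¹ := by group
    _ = n * (d * (n⁻¹ * v * n)) * n⁻¹ := by rw [h2]
    _ = n * d * n⁻¹ * v := by group

/-- elements of `N_G(V)` fixing `p` and `q` -/
theorem mem_centV_of_fix {n : G} (hn : n ∈ normalizer (V : Set G)) (h1 : n * p * n⁻¹ = p)
    (h2 : n * q * n⁻¹ = q) : n ∈ centralizer (V : Set G) := by
  rcases h.fix_or_swap h.t hn h1 with h3 | h3
  · exact h3.1
  · exfalso
    rw [h2] at h3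
    exact h.t.nqr h3.1

section Fin

variable [Finite G]

/-- an element of `N_G(V) ∩ C_G(p)` inverting `g` -/
theorem exists_s0 : ∃ s ∈ normalizer (V : Set G), s * p * s⁻¹ = p ∧ s * q * s⁻¹ = r ∧ s * r * s⁻¹ = q ∧
    s * g * s⁻¹ = g⁻¹ := by
  obtain ⟨x, hx, -, hxp, hxq, hxr, -⟩ := h.exists_h h.t
  have hxN := hx.1
  have hA : zpowers g ≤ normalizer (centralizer (V : Set G) : Set G) := by
    rw [zpowers_le]; exact h.centV_norm h.gN
  obtain ⟨n, hn⟩ := (IsPGroup.iff_card (p := 2)).mp (h.isPGroup_centV' h.t.hp)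
  have hcop : (Nat.card (zpowers g)).Coprime (Nat.card (centralizer (V : Set G))) := by
    rw [Nat.card_zpowers, h.orderOf_g, hn]
    exact Nat.Coprime.pow_right n (by norm_num)
  have hxp' : x⁻¹ * p * x = p := by
    calc x⁻¹ * p * x = x⁻¹ * (x * p * x⁻¹) * x := by rw [hxp]
      _ = p := by group
  have hxq' : x⁻¹ * q * x = r := by
    calc x⁻¹ * q * x = x⁻¹ * (x * r * x⁻¹) * x := by rw [hxr]
      _ = r := by group
  have hmem : x * g * x⁻¹ * g ∈ centralizer (V : Set G) := by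
    refine h.mem_centV_of_fix (mul_mem (mul_mem (mul_mem hxN h.gN) (inv_mem hxN)) h.gN) ?_ ?_
    · have e : x * g * x⁻¹ * g * p * (x * g * x⁻¹ * g)⁻¹ = x * (g * (x⁻¹ * (g * p * g⁻¹) * x) * g⁻¹) * x⁻¹ := by
        group
      rw [e, h.gp, hxq', h.gr, hxp]
    · have e : x * g * x⁻¹ * g * q * (x * g * x⁻¹ * g)⁻¹ = x * (g * (x⁻¹ * (g * q * g⁻¹) * x) * g⁻¹) * x⁻¹ := by
        group
      have hxr' : x⁻¹ * r * x = q := by
        calc x⁻¹ * r * x = x⁻¹ * (x * q * x⁻¹) * x := by rw [hxq]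
          _ = q := by group
      rw [e, h.gq, hxr', h.gq, hxr]
  have hB : zpowers (x * g * x⁻¹) ≤ zpowers g ⊔ centralizer (V : Set G) := by
    rw [zpowers_le]
    have e : x * g * x⁻¹ = (x * g * x⁻¹ * g) * g⁻¹ := by group
    rw [e]
    exact mul_mem ((le_sup_right : _ ≤ zpowers g ⊔ centralizer (V : Set G)) hmem)
      ((le_sup_left : _ ≤ zpowers g ⊔ centralizer (V : Set G)) (inv_mem (mem_zpowers g)))
  have hcard : Nat.card (zpowers (x * g * x⁻¹)) = Nat.card (zpowers g) := by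
    rw [Nat.card_zpowers, Nat.card_zpowers]; exact (MulAut.conj x).orderOf_eq g
  have hsol : Group.IsSolvable (zpowers g) := Group.isSolvable_of_comm fun a b => IsMulCommutative.is_comm.comm a b
  obtain ⟨d, hd, hdc⟩ := Cfsg.Agent.Solvable.Glauberman.exists_conj_of_le_sup (zpowers g)
    (centralizer (V : Set G)) hA hcop (Or.inl hsol) _ hB hcard
  have h1 : x * g * x⁻¹ ∈ MulAut.conj d • zpowers g := by rw [hdc]; exact mem_zpowers _
  obtain ⟨y, hy, hyx⟩ := (Subgroup.mem_smul_pointwise_iff_exists _ _ _).mp h1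
  have hyx' : d * y * d⁻¹ = x * g * x⁻¹ := hyx
  have hdN := h.centV_le_norm hd
  have hsN : d⁻¹ * x ∈ normalizer (V : Set G) := mul_mem (inv_mem hdN) hxN
  have hdi : ∀ v ∈ V, d⁻¹ * v * d = v := by
    intro v hv
    have := h.fix_of_centV (inv_mem hd) hv
    rwa [inv_inv] at this
  have sact : ∀ v : G, d⁻¹ * x * v * (d⁻¹ * x)⁻¹ = d⁻¹ * (x * v * x⁻¹) * d := fun v => by group
  have hsg : d⁻¹ * x * g * (d⁻¹ * x)⁻¹ = y := by
    rw [sact, ← hyx']; group
  have sp : d⁻¹ * x * p * (d⁻¹ * x)⁻¹ = p := by rw [sact, hxp, hdi p h.t.hp.1]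
  have sq : d⁻¹ * x * q * (d⁻¹ * x)⁻¹ = r := by rw [sact, hxq, hdi r h.t.hr.1]
  have sr : d⁻¹ * x * r * (d⁻¹ * x)⁻¹ = q := by rw [sact, hxr, hdi q h.t.hq.1]
  refine ⟨d⁻¹ * x, hsN, sp, sq, sr, ?_⟩
  rw [hsg]
  -- `y p y⁻¹ = r`
  have hyp : y * p * y⁻¹ = r := by
    have sp' : (d⁻¹ * x)⁻¹ * p * (d⁻¹ * x) = p := by
      calc (d⁻¹ * x)⁻¹ * p * (d⁻¹ * x) = (d⁻¹ * x)⁻¹ * (d⁻¹ * x * p * (d⁻¹ * x)⁻¹) * (d⁻¹ * x) := by rw [sp]
        _ = p := by group
    calc y * p * y⁻¹ = (d⁻¹ * x) * (g * ((d⁻¹ * x)⁻¹ * p * (d⁻¹ * x)) * g⁻¹) * (d⁻¹ * x)⁻¹ := by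
          rw [← hsg]; group
      _ = r := by rw [sp', h.gp, sq]
  rcases h.mem_zpowers_g hy with e | e | e
  · rw [e, one_mul, inv_one, mul_one] at hyp
    exact absurd hyp h.t.npr
  · rw [e, h.gp] at hyp
    exact absurd hyp h.t.nqr
  · rw [e, h.g_inv]

/-- `C_G(V) = W C(g)` -/
theorem exists_mul_cent {d : G} (hd : d ∈ centralizer (V : Set G)) : ∃ w ∈ WW V U,
    ∃ c ∈ centralizer (V : Set G) ⊓ centralizer ({g} : Set G), d = w * c := by
  haveI : Fact (Nat.Prime 3) := ⟨by norm_num⟩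
  obtain ⟨n, hn⟩ := (IsPGroup.iff_card (p := 2)).mp ((h.isPGroup_centV' h.t.hp).to_le h.W_le_centV)
  have hP : IsPGroup 3 (zpowers g) := IsPGroup.of_card (n := 1) (by rw [Nat.card_zpowers, h.orderOf_g, pow_one])
  obtain ⟨c, hc, hdc⟩ := Cfsg.Agent.Lib.CoprimeCommutator.exists_fixed_in_coset 3 (zpowers g) (WW V U) hP
    (by rw [zpowers_le]; exact h.norm_W h.gN) (by
      rw [hn]
      intro h3
      have := Nat.Prime.dvd_of_dvd_pow (by norm_num) h3
      omega) d (by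
      intro a ha
      have h1 : a ∈ NW V (WW V U) h.norm_W := by
        have : zpowers g ≤ NW V (WW V U) h.norm_W := by rw [zpowers_le]; exact ⟨h.gN, h.gW⟩
        exact this ha
      have h2 := h1.2 d⁻¹ (inv_mem hd)
      have e : d⁻¹ * (a * d * a⁻¹) = d⁻¹ * a * d⁻¹⁻¹ * a⁻¹ := by group
      rw [e]; exact h2)
  have hcg : c ∈ centralizer ({g} : Set G) :=
    mem_centralizer_singleton_iff.mpr (mem_centralizer_iff.mp hc g (mem_zpowers g)).symm
  have hcD : c ∈ centralizer (V : Set G) := by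
    have e : c = d * (d⁻¹ * c) := by group
    rw [e]; exact mul_mem hd (h.W_le_centV hdc)
  refine ⟨c * (d⁻¹ * c)⁻¹ * c⁻¹, conj_mem_of_normalizer h.norm_W (h.centV_le_norm hcD) (inv_mem hdc), c,
    ⟨hcD, hcg⟩, by group⟩

/-- (A12), by `soc` -/
theorem cent_W : centralizer (WW V U : Set G) = V := by
  apply le_antisymm
  swap
  · intro v hv
    exact mem_centralizer_iff.mpr fun w hw => (h.vcomm hv (h.W_le_centV hw)).symm
  obtain ⟨s, hsN, hsp, hsq, hsr, hsg⟩ := h.exists_s0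
  have hMD : centralizer (WW V U : Set G) ≤ centralizer (V : Set G) := centralizer_le (h.V_le_W h.t.hp)
  have hMN : normalizer (V : Set G) ≤ normalizer (centralizer (WW V U : Set G) : Set G) := by
    refine le_normalizer_of_forall fun n hn d hd => mem_centralizer_iff.mpr fun v hv => ?_
    have h1 : n⁻¹ * v * n ∈ WW V U := conj_mem_of_normalizer' h.norm_W hn hv
    have h2 := mem_centralizer_iff.mp hd _ h1
    calc v * (n * d * n⁻¹) = n * ((n⁻¹ * v * n) * d) * n⁻¹ := by group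
      _ = n * (d * (n⁻¹ * v * n)) * n⁻¹ := by rw [h2]
      _ = n * d * n⁻¹ * v := by group
  set R := centralizer (WW V U : Set G) ⊓ centralizer ({g} : Set G) with hR
  have hRbot : R = ⊥ := by
    by_contra hne
    have hRD : R ≤ centralizer (V : Set G) := inf_le_left.trans hMD
    have hDp : centralizer (V : Set G) ≤ centralizer ({p} : Set G) := fun d hd =>
      mem_centralizer_singleton_iff.mpr (h.vcomm h.t.hp.1 hd).symm
    have hs : ∀ y ∈ R, s * y * s⁻¹ ∈ R := by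
      intro y hy
      refine NTri.inf_mk (conj_mem_of_normalizer hMN hsN hy.1) (mem_centralizer_singleton_iff.mpr ?_)
      have h1 : y * g = g * y := mem_centralizer_singleton_iff.mp hy.2
      have h2 : (s * y * s⁻¹) * g⁻¹ = g⁻¹ * (s * y * s⁻¹) := by
        rw [← hsg]
        calc s * y * s⁻¹ * (s * g * s⁻¹) = s * (y * g) * s⁻¹ := by group
          _ = s * (g * y) * s⁻¹ := by rw [h1]
          _ = s * g * s⁻¹ * (s * y * s⁻¹) := by group
      have h3 : Commute (s * y * s⁻¹) g⁻¹ := h2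
      have h4 := h3.inv_right
      rw [inv_inv] at h4
      exact h4
    have hD : ∀ d ∈ centralizer (V : Set G), ∀ y ∈ R, d * y * d⁻¹ ∈ R := by
      intro d hd y hy
      refine NTri.inf_mk (conj_mem_of_normalizer hMN (h.centV_le_norm hd) hy.1) (mem_centralizer_singleton_iff.mpr ?_)
      obtain ⟨w, hw, c, hc, hcd⟩ := h.exists_mul_cent (inv_mem hd)
      have hd' : d = c⁻¹ * w⁻¹ := by rw [← mul_inv_rev, ← hcd, inv_inv]
      have h1 : y * g = g * y := mem_centralizer_singleton_iff.mp hy.2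
      have h2 : c * g = g * c := mem_centralizer_singleton_iff.mp hc.2
      have h3 : w⁻¹ * y = y * w⁻¹ := mem_centralizer_iff.mp hy.1 _ (inv_mem hw)
      have h5 : Commute (c⁻¹ * y * c) g := by
        have a1 : Commute c g := h2
        have a2 : Commute y g := h1
        exact (a1.inv_left.mul_left a2).mul_left a1
      have h6 : d * y * d⁻¹ = c⁻¹ * y * c := by
        rw [hd']
        calc c⁻¹ * w⁻¹ * y * (c⁻¹ * w⁻¹)⁻¹ = c⁻¹ * (w⁻¹ * y) * w * c := by group
          _ = c⁻¹ * (y * w⁻¹) * w * c := by rw [h3]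
          _ = c⁻¹ * y * c := by group
      rw [h6]
      exact h5
    have hpR : p ∈ R := by
      refine h.soc p h.t.hp R (le_inf (hRD.trans h.centV_le_norm) (hRD.trans hDp))
        ((h.isPGroup_centV' h.t.hp).to_le hRD) hne (le_normalizer_of_forall ?_)
      rintro n ⟨hnN, hnp⟩ y hy
      have hnp' : n * p * n⁻¹ = p := by
        rw [mem_centralizer_singleton_iff.mp hnp, mul_inv_cancel_right]
      rcases h.fix_or_swap h.t hnN hnp' with ⟨h1, -, -⟩ | ⟨h1, h2⟩
      · exact hD n h1 y hy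
      · have hsp' : s⁻¹ * p * s = p := by
          calc s⁻¹ * p * s = s⁻¹ * (s * p * s⁻¹) * s := by rw [hsp]
            _ = p := by group
        have hsq' : s⁻¹ * q * s = r := by
          calc s⁻¹ * q * s = s⁻¹ * (s * r * s⁻¹) * s := by rw [hsr]
            _ = r := by group
        have h3 : n * s⁻¹ ∈ centralizer (V : Set G) := by
          refine h.mem_centV_of_fix (mul_mem hnN (inv_mem hsN)) ?_ ?_
          · have e : n * s⁻¹ * p * (n * s⁻¹)⁻¹ = n * (s⁻¹ * p * s) * n⁻¹ := by group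
            rw [e, hsp', hnp']
          · have e : n * s⁻¹ * q * (n * s⁻¹)⁻¹ = n * (s⁻¹ * q * s) * n⁻¹ := by group
            rw [e, hsq', h2]
        have h4 := hD _ h3 _ (hs y hy)
        have e : n * s⁻¹ * (s * y * s⁻¹) * (n * s⁻¹)⁻¹ = n * y * n⁻¹ := by group
        rwa [e] at h4
    have h1 : p * g = g * p := mem_centralizer_singleton_iff.mp hpR.2
    have h2 := h.V_fix h.t.hp.1 (by rw [← h1, mul_inv_cancel_right])
    exact h.t.hp.2 h2
  intro m hm
  haveI : Fact (Nat.Prime 3) := ⟨by norm_num⟩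
  have hP : IsPGroup 3 (zpowers g) := IsPGroup.of_card (n := 1) (by rw [Nat.card_zpowers, h.orderOf_g, pow_one])
  obtain ⟨c, hc, hdc⟩ := Cfsg.Agent.Lib.CoprimeCommutator.exists_fixed_in_coset 3 (zpowers g) V hP
    (by rw [zpowers_le]; exact h.gN) (by rw [h.cardV]; norm_num) m (by
      intro a ha
      have h1 : a ∈ NW V (WW V U) h.norm_W := by
        have : zpowers g ≤ NW V (WW V U) h.norm_W := by rw [zpowers_le]; exact ⟨h.gN, h.gW⟩
        exact this ha
      have h2 := h1.2 m⁻¹ (inv_mem (hMD hm))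
      have e : m⁻¹ * (a * m * a⁻¹) = m⁻¹ * a * m⁻¹⁻¹ * a⁻¹ := by group
      have h3 : m⁻¹ * (a * m * a⁻¹) ∈ centralizer (WW V U : Set G) :=
        mul_mem (inv_mem hm) (conj_mem_of_normalizer hMN h1.1 hm)
      refine h.W_inf_cent h.t (by rw [e]; exact h2) fun y hy => ?_
      exact (mem_centralizer_iff.mp h3 y hy).symm)
  have hcg : c ∈ centralizer ({g} : Set G) :=
    mem_centralizer_singleton_iff.mpr (mem_centralizer_iff.mp hc g (mem_zpowers g)).symm
  have hcM : c ∈ centralizer (WW V U : Set G) := by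
    have e : c = m * (m⁻¹ * c) := by group
    rw [e]
    refine mul_mem hm (mem_centralizer_iff.mpr fun w hw => ?_)
    exact (h.vcomm hdc (h.W_le_centV hw)).symm
  have hc1 : c ∈ R := ⟨hcM, hcg⟩
  rw [hRbot, mem_bot] at hc1
  rw [hc1, mul_one] at hdc
  simpa using inv_mem hdc

end Fin

end Fr

end Cfsg.Agent.Omega.NO3S.Fit.MTri

end
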