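import Mathlib
import Cfsg.Agent.Mrg.Omega.NO3S.Fit.MTri.Tri
import Cfsg.Agent.SectRankFour.C2.Defs


/-!
# The natural block: `NTri` is the configuration `Conf64` or `Conf128`

`W₀` of order 16 in `W`, `C_G(V) = W₀ E` with `E = C(g) ∩ C_G(V)` of order 2 or 4.
-/

set_option autoImplicit false
set_option linter.unusedSectionVars false

namespace Cfsg.Agent.Omega.NO3S.Fit.MTri

open Subgroup Cfsg Cfsg.Agent.ZN Cfsg.Agent.MinSimple.Geo
open Cfsg.Agent.Classification.TitsFin.Tri (Pt kst cj_kst K Q)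
open Cfsg.Agent.SectRankFour.C2.Defs (Conf64 Conf128)
open Cfsg.Agent.ZN.Block (conj_mem_of_normalizer conj_mem_of_normalizer' le_normalizer_of_forall
  mem_normalizer_of card_sup_mul_card_inf card_mul_relIndex' mul_mem_of_relIndex_two o2_le o2_conj o2_isPGroup
  le_o2 le_normalizer_o2)

universe u

variable {G : Type u} [Group G]

/-- the second element -/
def bb (g a : G) : G := g * a * g⁻¹

/-- the third element -/
def cc (g a : G) : G := g * (g * a * g⁻¹) * g⁻¹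

/-- the complement -/
def EE (V : Subgroup G) (g : G) : Subgroup G := centralizer (V : Set G) ⊓ centralizer ({g} : Set G)

theorem mem_EE {V : Subgroup G} {g e : G} : e ∈ EE V g ↔ e ∈ centralizer (V : Set G) ∧ e * g = g * e := by
  unfold EE
  rw [mem_inf, mem_centralizer_singleton_iff]

theorem dl_conj (n d y : G) : dl (n * d * n⁻¹) (n * y * n⁻¹) = n * dl d y * n⁻¹ := by
  unfold dl; group

theorem conj_eq_dl (d y : G) : d * y * d⁻¹ = dl d y * y := by unfold dl; group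

namespace NTri

variable {V : Subgroup G} {U C : G → Subgroup G} (h : NTri V U C) {p q r : G}

include h

theorem dl_va {d v y : G} (hp : Pt V p) (hd : d ∈ centralizer (V : Set G)) (hv : v ∈ V) (hy : y ∈ U p) :
    dl d (v * y) = dl d y := by
  have h1 := h.vcomm hv hd
  have h2 := h.vcomm hv (h.V_le_centV (h.dl_mem hp hy hd))
  unfold dl at *
  calc d * (v * y) * d⁻¹ * (v * y)⁻¹ = (d * v) * y * d⁻¹ * y⁻¹ * v⁻¹ := by group
    _ = v * (d * y * d⁻¹ * y⁻¹) * v⁻¹ := by rw [← h1]; group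
    _ = d * y * d⁻¹ * y⁻¹ := by rw [h2, mul_inv_cancel_right]

/-- the value of `dl d` on `U p ∖ V` is constant -/
theorem dl_const {d y z : G} (hp : Pt V p) (hd : d ∈ centralizer (V : Set G)) (hy : y ∈ U p) (hyV : y ∉ V)
    (hz : z ∈ U p) (hzV : z ∉ V) : dl d z = dl d y := by
  obtain ⟨v, hv, rfl⟩ := h.exists_V hp hy hyV hz hzV
  exact h.dl_va hp hd hv hy

/-- `W₀`: the elements of `W` acting uniformly -/
def W0 : Subgroup G where
  carrier := {x | x ∈ WW V U ∧ ∃ v ∈ V, ∀ p', Pt V p' → ∀ y ∈ U p', y ∉ V → dl x y = v}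
  mul_mem' := by
    rintro x y ⟨hx, v, hv, hxv⟩ ⟨hy, w, hw, hyw⟩
    refine ⟨mul_mem hx hy, v * w, mul_mem hv hw, fun p' hp' z hz hzV => ?_⟩
    rw [h.dl_mul hp' hz (h.W_le_centV hx) (h.W_le_centV hy), hxv p' hp' z hz hzV, hyw p' hp' z hz hzV]
  one_mem' := ⟨one_mem _, 1, one_mem _, fun p' _ z _ _ => by unfold dl; group⟩
  inv_mem' := by
    rintro x ⟨hx, v, hv, hxv⟩
    refine ⟨inv_mem hx, v⁻¹, inv_mem hv, fun p' hp' z hz hzV => ?_⟩
    have h1 := h.dl_mul hp' hz (inv_mem (h.W_le_centV hx)) (h.W_le_centV hx)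
    rw [inv_mul_cancel, h.dl_one, hxv p' hp' z hz hzV] at h1
    exact eq_inv_of_mul_eq_one_left h1.symm

theorem mem_W0 {x : G} : x ∈ W0 h ↔ x ∈ WW V U ∧ ∃ v ∈ V, ∀ p', Pt V p' → ∀ y ∈ U p', y ∉ V → dl x y = v :=
  Iff.rfl

theorem W0_le : W0 h ≤ WW V U := fun _ hx => hx.1

theorem V_le_W0 (hp : Pt V p) : V ≤ W0 h := fun _ hv =>
  ⟨h.V_le_W hp hv, 1, one_mem _, fun _ hp' _ hy _ => h.dl_V hp' hy hv⟩

theorem norm_W0 : normalizer (V : Set G) ≤ normalizer (W0 h : Set G) := by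
  refine le_normalizer_of_forall fun n hn x hx => ?_
  obtain ⟨hx, v, hv, hxv⟩ := hx
  refine ⟨conj_mem_of_normalizer h.norm_W hn hx, n * v * n⁻¹, h.conj_V hn hv, fun p' hp' y hy hyV => ?_⟩
  have hn' : n⁻¹ ∈ normalizer (V : Set G) := inv_mem hn
  have h1 := hxv (n⁻¹ * p' * n⁻¹⁻¹) (h.pt_conj hn' hp') (n⁻¹ * y * n⁻¹⁻¹) (h.conj_U hn' hp' hy)
    (h.conj_notV hn' hyV)
  rw [← h1, ← dl_conj]
  congr 1; group

end NTri

namespace Fr

variable {V : Subgroup G} {U C : G → Subgroup G} {p q r g a : G} (h : Fr V U C p q r g a)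

include h

theorem Ub : bb g a ∈ U q := h.hb
theorem Vb : bb g a ∉ V := h.hbV
theorem Uc : cc g a ∈ U r := h.hc
theorem Vc : cc g a ∉ V := h.hcV
theorem gb : g * bb g a * g⁻¹ = cc g a := rfl
theorem gc : g * cc g a * g⁻¹ = a := h.g3a a
theorem Da : a ∈ centralizer (V : Set G) := h.U_le_centV h.t.hp h.ha
theorem Db : bb g a ∈ centralizer (V : Set G) := h.U_le_centV h.t.hq h.Ub
theorem Dc : cc g a ∈ centralizer (V : Set G) := h.U_le_centV h.t.hr h.Uc
theorem Wa : a ∈ WW V U := h.U_le_W h.t.hp h.ha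
theorem Wb : bb g a ∈ WW V U := h.U_le_W h.t.hq h.Ub
theorem Wc : cc g a ∈ WW V U := h.U_le_W h.t.hr h.Uc

theorem ba : dl (bb g a) a = r := h.comm' (h.swp h.t) h.Ub h.Vb h.ha h.haV
theorem ca : dl (cc g a) a = q := h.comm' (h.rot (h.rot h.t)) h.Uc h.Vc h.ha h.haV
theorem ab : dl a (bb g a) = r := h.comm' h.t h.ha h.haV h.Ub h.Vb
theorem cb : dl (cc g a) (bb g a) = p := h.comm' (h.swp (h.rot h.t)) h.Uc h.Vc h.Ub h.Vb
theorem ac : dl a (cc g a) = q := h.comm' (h.swp (h.rot (h.rot h.t))) h.ha h.haV h.Uc h.Vc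
theorem bc : dl (bb g a) (cc g a) = p := h.comm' (h.rot h.t) h.Ub h.Vb h.Uc h.Vc

theorem mpq : p * q = r := h.t.eq
theorem mqp : q * p = r := (h.swp h.t).eq
theorem mqr : q * r = p := (h.rot h.t).eq
theorem mrq : r * q = p := (h.swp (h.rot h.t)).eq
theorem mrp : r * p = q := (h.rot (h.rot h.t)).eq
theorem mpr : p * r = q := (h.swp (h.rot (h.rot h.t))).eq
theorem mpp : p * p = 1 := h.pp h.t.hp
theorem mqq : q * q = 1 := h.pp h.t.hq
theorem mrr : r * r = 1 := h.pp h.t.hr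

theorem dmul_a {d d' : G} (hd : d ∈ centralizer (V : Set G)) (hd' : d' ∈ centralizer (V : Set G)) :
    dl (d * d') a = dl d a * dl d' a := h.dl_mul h.t.hp h.ha hd hd'
theorem dmul_b {d d' : G} (hd : d ∈ centralizer (V : Set G)) (hd' : d' ∈ centralizer (V : Set G)) :
    dl (d * d') (bb g a) = dl d (bb g a) * dl d' (bb g a) := h.dl_mul h.t.hq h.Ub hd hd'
theorem dmul_c {d d' : G} (hd : d ∈ centralizer (V : Set G)) (hd' : d' ∈ centralizer (V : Set G)) :
    dl (d * d') (cc g a) = dl d (cc g a) * dl d' (cc g a) := h.dl_mul h.t.hr h.Uc hd hd'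

theorem mem_W0' {x v : G} (hx : x ∈ WW V U) (hv : v ∈ V) (h1 : dl x a = v) (h2 : dl x (bb g a) = v)
    (h3 : dl x (cc g a) = v) : x ∈ h.toNTri.W0 := by
  refine ⟨hx, v, hv, fun p' hp' y hy hyV => ?_⟩
  have hd := h.W_le_centV hx
  rcases h.mem_V' h.t hp'.1 with rfl | rfl | rfl | rfl
  · exact absurd rfl hp'.2
  · rw [h.dl_const hp' hd h.ha h.haV hy hyV, h1]
  · rw [h.dl_const hp' hd h.Ub h.Vb hy hyV, h2]
  · rw [h.dl_const hp' hd h.Uc h.Vc hy hyV, h3]

/-- the value of an element of `W₀` -/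
theorem W0_val {x : G} (hx : x ∈ h.toNTri.W0) {p' y : G} (hp' : Pt V p') (hy : y ∈ U p') (hyV : y ∉ V) :
    dl x y = dl x a := by
  obtain ⟨-, v, -, hv⟩ := hx
  rw [hv p' hp' y hy hyV, hv p h.t.hp a h.ha h.haV]

theorem Eb {e : G} (he : e ∈ EE V g) : dl e (bb g a) = g * dl e a * g⁻¹ := by
  rw [← dl_conj]
  have h1 : g * e * g⁻¹ = e := by rw [← (mem_EE.mp he).2, mul_inv_cancel_right]
  rw [h1]; rfl

theorem Ec {e : G} (he : e ∈ EE V g) : dl e (cc g a) = g * (g * dl e a * g⁻¹) * g⁻¹ := by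
  rw [← h.Eb he, ← dl_conj]
  have h1 : g * e * g⁻¹ = e := by rw [← (mem_EE.mp he).2, mul_inv_cancel_right]
  rw [h1]; rfl

/-- conjugation by `g` on the points -/
theorem E_dl {e : G} (he : e ∈ EE V g) :
    (dl e a = 1 → dl e (bb g a) = 1 ∧ dl e (cc g a) = 1) ∧ (dl e a = p → dl e (bb g a) = q ∧ dl e (cc g a) = r) ∧
    (dl e a = q → dl e (bb g a) = r ∧ dl e (cc g a) = p) ∧ (dl e a = r → dl e (bb g a) = p ∧ dl e (cc g a) = q) := by
  rw [h.Eb he, h.Ec he]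
  refine ⟨fun e1 => ?_, fun e1 => ?_, fun e1 => ?_, fun e1 => ?_⟩ <;> rw [e1]
  · simp
  · rw [h.gp, h.gq]; exact ⟨rfl, rfl⟩
  · rw [h.gq, h.gr]; exact ⟨rfl, rfl⟩
  · rw [h.gr, h.gp]; exact ⟨rfl, rfl⟩

section Fin

variable [Finite G]

/-- elements of `C_G(V)` commuting with `a`, `b`, `c` -/
theorem mem_V_of_dl {d : G} (hd : d ∈ centralizer (V : Set G)) (h1 : dl d a = 1) (h2 : dl d (bb g a) = 1)
    (h3 : dl d (cc g a) = 1) : d ∈ V := by
  rw [← h.cent_W]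
  refine mem_centralizer_iff.mpr fun w hw => ?_
  obtain ⟨x1, x2, x3, v, e1, e2, e3, hv, rfl⟩ := h.exists_form h.t h.ha h.haV h.Ub h.Vb h.Uc h.Vc hw
  have c1 : Commute d x1 := by
    rcases e1 with rfl | rfl
    · exact Commute.one_right d
    · exact h.dl_eq_one.mp h1
  have c2 : Commute d x2 := by
    rcases e2 with rfl | rfl
    · exact Commute.one_right d
    · exact h.dl_eq_one.mp h2
  have c3 : Commute d x3 := by
    rcases e3 with rfl | rfl
    · exact Commute.one_right d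
    · exact h.dl_eq_one.mp h3
  have cv : Commute d v := (h.vcomm hv hd).symm
  exact (cv.mul_right ((c1.mul_right c2).mul_right c3)).symm

theorem exists_V_of_dl {d d' : G} (hd : d ∈ centralizer (V : Set G)) (hd' : d' ∈ centralizer (V : Set G))
    (h1 : dl d a = dl d' a) (h2 : dl d (bb g a) = dl d' (bb g a)) (h3 : dl d (cc g a) = dl d' (cc g a)) :
    ∃ v ∈ V, d = v * d' := by
  have hi := inv_mem hd'
  have hone : ∀ y, dl (1 : G) y = 1 := fun y => h.dl_one y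
  refine ⟨d * d'⁻¹, h.mem_V_of_dl (mul_mem hd hi) ?_ ?_ ?_, by group⟩
  · rw [h.dmul_a hd hi, h1, ← h.dmul_a hd' hi, mul_inv_cancel, hone]
  · rw [h.dmul_b hd hi, h2, ← h.dmul_b hd' hi, mul_inv_cancel, hone]
  · rw [h.dmul_c hd hi, h3, ← h.dmul_c hd' hi, mul_inv_cancel, hone]

theorem E_inj {e : G} (he : e ∈ EE V g) (h1 : dl e a = 1) : e = 1 := by
  have h2 := (h.E_dl he).1 h1
  have h3 := h.mem_V_of_dl (mem_EE.mp he).1 h1 h2.1 h2.2
  exact h.V_fix h3 (by rw [← (mem_EE.mp he).2, mul_inv_cancel_right])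

theorem E_inj' {e e' : G} (he : e ∈ EE V g) (he' : e' ∈ EE V g) (h1 : dl e a = dl e' a) : e = e' := by
  have h2 : e * e'⁻¹ ∈ EE V g := mul_mem he (inv_mem he')
  have h3 : dl (e * e'⁻¹) a = 1 := by
    rw [h.dmul_a (mem_EE.mp he).1 (inv_mem (mem_EE.mp he').1), h1,
      ← h.dmul_a (mem_EE.mp he').1 (inv_mem (mem_EE.mp he').1), mul_inv_cancel, h.dl_one]
  exact mul_inv_eq_one.mp (h.E_inj h2 h3)

theorem E_sq {e : G} (he : e ∈ EE V g) : e * e = 1 := by
  refine h.E_inj (mul_mem he he) ?_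
  rw [h.dmul_a (mem_EE.mp he).1 (mem_EE.mp he).1]
  exact h.sqV _ (h.dl_mem h.t.hp h.ha (mem_EE.mp he).1)

/-- `W₀ ∩ E = 1` -/
theorem W0_inf_E {x : G} (hx : x ∈ h.toNTri.W0) (hE : x ∈ EE V g) : x = 1 := by
  refine h.E_inj hE (h.V_fix (h.dl_mem h.t.hp h.ha (mem_EE.mp hE).1) ?_)
  rw [← h.Eb hE, h.W0_val hx h.t.hq h.Ub h.Vb]

/-- the involution `u` -/
theorem u_mem : q * (a * bb g a * cc g a) ∈ WW V U :=
  mul_mem (h.V_le_W h.t.hp h.t.hq.1) (mul_mem (mul_mem h.Wa h.Wb) h.Wc)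

theorem dl_prod {v x1 x2 x3 y p' : G} (hv : v ∈ V) (h1 : x1 ∈ centralizer (V : Set G))
    (h2 : x2 ∈ centralizer (V : Set G)) (h3 : x3 ∈ centralizer (V : Set G)) (hp' : Pt V p') (hy : y ∈ U p') :
    dl (v * (x1 * x2 * x3)) y = dl x1 y * dl x2 y * dl x3 y := by
  rw [h.dl_mul hp' hy (h.V_le_centV hv) (mul_mem (mul_mem h1 h2) h3), h.dl_V hp' hy hv, one_mul,
    h.dl_mul hp' hy (mul_mem h1 h2) h3, h.dl_mul hp' hy h1 h2]

theorem u_dl : dl (q * (a * bb g a * cc g a)) a = p ∧ dl (q * (a * bb g a * cc g a)) (bb g a) = q ∧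
    dl (q * (a * bb g a * cc g a)) (cc g a) = r := by
  refine ⟨?_, ?_, ?_⟩
  · rw [h.dl_prod h.t.hq.1 h.Da h.Db h.Dc h.t.hp h.ha, h.dl_self, h.ba, h.ca, one_mul, h.mrq]
  · rw [h.dl_prod h.t.hq.1 h.Da h.Db h.Dc h.t.hq h.Ub, h.dl_self, h.ab, h.cb, mul_one, h.mrp]
  · rw [h.dl_prod h.t.hq.1 h.Da h.Db h.Dc h.t.hr h.Uc, h.dl_self, h.ac, h.bc, mul_one, h.mqp]

theorem u_E : q * (a * bb g a * cc g a) ∈ EE V g := by
  refine mem_EE.mpr ⟨h.W_le_centV h.u_mem, ?_⟩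
  have hq := h.t.hq.1
  have hca : cc g a * a = q * (a * cc g a) := h.swap' (h.rot (h.rot h.t)) h.Uc h.Vc h.ha h.haV
  have hba : bb g a * a = r * (a * bb g a) := h.swap' (h.swp h.t) h.Ub h.Vb h.ha h.haV
  have e1 : g * (q * (a * bb g a * cc g a)) * g⁻¹ = q * (a * bb g a * cc g a) := by
    calc g * (q * (a * bb g a * cc g a)) * g⁻¹ =
          (g * q * g⁻¹) * ((g * a * g⁻¹) * (g * bb g a * g⁻¹) * (g * cc g a * g⁻¹)) := by group
      _ = r * (bb g a * (cc g a * a)) := by rw [h.gq, h.gb, h.gc]; unfold bb; group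
      _ = r * (bb g a * q) * a * cc g a := by rw [hca]; group
      _ = r * q * (bb g a * a) * cc g a := by rw [← h.vcomm hq h.Db]; group
      _ = (r * q * r) * (a * bb g a * cc g a) := by rw [hba]; group
      _ = q * (a * bb g a * cc g a) := by rw [h.mrq, h.mpr]
  rw [mul_inv_eq_iff_eq_mul] at e1
  exact e1.symm

theorem u_ne : q * (a * bb g a * cc g a) ≠ 1 := by
  intro e
  have h1 := h.u_dl.1
  rw [e, h.dl_one] at h1
  exact h.t.hp.2 h1.symm

/-- `W = W₀ ∪ W₀ u` -/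
theorem W_cases {x : G} (hx : x ∈ WW V U) :
    x ∈ h.toNTri.W0 ∨ x * (q * (a * bb g a * cc g a)) ∈ h.toNTri.W0 := by
  obtain ⟨x1, x2, x3, v, e1, e2, e3, hv, rfl⟩ := h.exists_form h.t h.ha h.haV h.Ub h.Vb h.Uc h.Vc hx
  obtain ⟨u1, u2, u3⟩ := h.u_dl
  have hu := h.u_mem
  have hone : ∀ y, dl (1 : G) y = 1 := fun y => h.dl_one y
  have hslf : ∀ y : G, dl y y = 1 := fun y => h.dl_self y
  have o : ∀ {x y : G}, (x = 1 ∨ x = y) → y ∈ centralizer (V : Set G) → x ∈ centralizer (V : Set G) := by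
    rintro x y (rfl | rfl) hy
    · exact one_mem _
    · exact hy
  have d1 := o e1 h.Da
  have d2 := o e2 h.Db
  have d3 := o e3 h.Dc
  have f1 := h.dl_prod hv d1 d2 d3 h.t.hp h.ha
  have f2 := h.dl_prod hv d1 d2 d3 h.t.hq h.Ub
  have f3 := h.dl_prod hv d1 d2 d3 h.t.hr h.Uc
  have g1 := h.dmul_a (h.W_le_centV hx) (h.W_le_centV hu)
  have g2 := h.dmul_b (h.W_le_centV hx) (h.W_le_centV hu)
  have g3 := h.dmul_c (h.W_le_centV hx) (h.W_le_centV hu)
  rw [f1, u1] at g1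
  rw [f2, u2] at g2
  rw [f3, u3] at g3
  have T := And.intro h.ba (And.intro h.ca (And.intro h.ab (And.intro h.cb (And.intro h.ac h.bc))))
  obtain ⟨t1, t2, t3, t4, t5, t6⟩ := T
  rcases e1 with rfl | rfl <;> rcases e2 with rfl | rfl <;> rcases e3 with rfl | rfl <;>
    simp only [hone, hslf, one_mul, mul_one, t1, t2, t3, t4, t5, t6, h.mpq, h.mqp, h.mqr, h.mrq, h.mrp, h.mpr,
      h.mpp, h.mqq, h.mrr] at f1 f2 f3 g1 g2 g3
  all_goals first
    | (left; exact h.mem_W0' (v := 1) hx (one_mem _) (by simpa only [one_mul, mul_one] using f1)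
        (by simpa only [one_mul, mul_one] using f2) (by simpa only [one_mul, mul_one] using f3))
    | (right; exact h.mem_W0' (v := 1) (mul_mem hx hu) (one_mem _) (by simpa only [one_mul, mul_one] using g1)
        (by simpa only [one_mul, mul_one] using g2) (by simpa only [one_mul, mul_one] using g3))
    | (left; exact h.mem_W0' (v := p) hx h.t.hp.1 (by simpa only [one_mul, mul_one] using f1)
        (by simpa only [one_mul, mul_one] using f2) (by simpa only [one_mul, mul_one] using f3))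
    | (right; exact h.mem_W0' (v := p) (mul_mem hx hu) h.t.hp.1 (by simpa only [one_mul, mul_one] using g1)
        (by simpa only [one_mul, mul_one] using g2) (by simpa only [one_mul, mul_one] using g3))
    | (left; exact h.mem_W0' (v := q) hx h.t.hq.1 (by simpa only [one_mul, mul_one] using f1)
        (by simpa only [one_mul, mul_one] using f2) (by simpa only [one_mul, mul_one] using f3))
    | (right; exact h.mem_W0' (v := q) (mul_mem hx hu) h.t.hq.1 (by simpa only [one_mul, mul_one] using g1)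
        (by simpa only [one_mul, mul_one] using g2) (by simpa only [one_mul, mul_one] using g3))
    | (left; exact h.mem_W0' (v := r) hx h.t.hr.1 (by simpa only [one_mul, mul_one] using f1)
        (by simpa only [one_mul, mul_one] using f2) (by simpa only [one_mul, mul_one] using f3))
    | (right; exact h.mem_W0' (v := r) (mul_mem hx hu) h.t.hr.1 (by simpa only [one_mul, mul_one] using g1)
        (by simpa only [one_mul, mul_one] using g2) (by simpa only [one_mul, mul_one] using g3))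

/-- `C_G(V) = W₀ E` -/
theorem exists_W0_E {d : G} (hd : d ∈ centralizer (V : Set G)) : ∃ w ∈ h.toNTri.W0, ∃ e ∈ EE V g, d = w * e := by
  obtain ⟨w, hw, c, hc, rfl⟩ := h.exists_mul_cent hd
  rcases h.W_cases hw with h1 | h1
  · exact ⟨w, h1, c, hc, rfl⟩
  · refine ⟨_, h1, (q * (a * bb g a * cc g a))⁻¹ * c, mul_mem (inv_mem h.u_E) hc, by group⟩

/-- the nontrivial cosets of `V` in `W₀` -/
theorem W0_form {x : G} (hx : x ∈ h.toNTri.W0) : x ∈ V ∨ ∃ p' q' r', Tr V p' q' r' ∧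
    (∃ y ∈ U p', y ∉ V ∧ ∃ z ∈ U q', z ∉ V ∧ x = y * z) ∧ dl x a = r' := by
  have hxD := h.W_le_centV hx.1
  have v2 := h.W0_val hx h.t.hq h.Ub h.Vb
  have v3 := h.W0_val hx h.t.hr h.Uc h.Vc
  have hslf : ∀ y : G, dl y y = 1 := fun y => h.dl_self y
  have key : ∀ {p' q' r' y z : G}, Tr V p' q' r' → y ∈ U p' → y ∉ V → z ∈ U q' → z ∉ V →
      dl x a = r' → dl (y * z) a = r' → dl (y * z) (bb g a) = r' → dl (y * z) (cc g a) = r' →
      x ∈ V ∨ ∃ p' q' r', Tr V p' q' r' ∧ (∃ y ∈ U p', y ∉ V ∧ ∃ z ∈ U q', z ∉ V ∧ x = y * z) ∧ dl x a = r' := by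
    intro p' q' r' y z t' hy hyV hz hzV e1 e2 e3 e4
    obtain ⟨v, hv, e⟩ := h.exists_V_of_dl hxD (mul_mem (h.U_le_centV t'.hp hy) (h.U_le_centV t'.hq hz))
      (e1.trans e2.symm) ((v2.trans e1).trans e3.symm) ((v3.trans e1).trans e4.symm)
    refine Or.inr ⟨p', q', r', t', ⟨v * y, mul_mem (h.V_le p' t'.hp hv) hy, fun hc => hyV ?_, z, hz, hzV, ?_⟩, e1⟩
    · have := mul_mem (inv_mem hv) hc
      rwa [inv_mul_cancel_left] at this
    · rw [e]; group
  rcases h.mem_V' h.t (h.dl_mem h.t.hp h.ha hxD) with e | e | e | e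
  · left
    exact h.mem_V_of_dl hxD e (v2.trans e) (v3.trans e)
  · refine key (h.rot h.t) h.Ub h.Vb h.Uc h.Vc e ?_ ?_ ?_
    · rw [h.dmul_a h.Db h.Dc, h.ba, h.ca, h.mrq]
    · rw [h.dmul_b h.Db h.Dc, hslf, h.cb, one_mul]
    · rw [h.dmul_c h.Db h.Dc, hslf, h.bc, mul_one]
  · refine key (h.rot (h.rot h.t)) h.Uc h.Vc h.ha h.haV e ?_ ?_ ?_
    · rw [h.dmul_a h.Dc h.Da, hslf, h.ca, mul_one]
    · rw [h.dmul_b h.Dc h.Da, h.cb, h.ab, h.mpr]
    · rw [h.dmul_c h.Dc h.Da, hslf, h.ac, one_mul]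
  · refine key h.t h.ha h.haV h.Ub h.Vb e ?_ ?_ ?_
    · rw [h.dmul_a h.Da h.Db, hslf, h.ba, one_mul]
    · rw [h.dmul_b h.Da h.Db, hslf, h.ab, mul_one]
    · rw [h.dmul_c h.Da h.Db, h.ac, h.bc, h.mqp]

/-- squares in `W₀` -/
theorem W0_sq {x : G} (hx : x ∈ h.toNTri.W0) : x * x = dl x a := by
  rcases h.W0_form hx with h1 | ⟨p', q', r', t', ⟨y, hy, hyV, z, hz, hzV, rfl⟩, e⟩
  · rw [h.sqV x h1, h.dl_V h.t.hp h.ha h1]
  · rw [e, h.e_sq (h.rot (h.rot t')) hy hyV hz hzV]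

/-- `W₀` is abelian -/
theorem W0_comm {x y : G} (hx : x ∈ h.toNTri.W0) (hy : y ∈ h.toNTri.W0) : x * y = y * x := by
  have hxD := h.W_le_centV hx.1
  rcases h.W0_form hy with h1 | ⟨p', q', r', t', ⟨w, hw, hwV, z, hz, hzV, rfl⟩, -⟩
  · exact (h.vcomm h1 hxD).symm
  · have e1 := h.W0_val hx t'.hp hw hwV
    have e2 := h.W0_val hx t'.hq hz hzV
    have hv := h.dl_mem h.t.hp h.ha hxD
    have hvw := h.vcomm hv (h.U_le_centV t'.hp hw)
    have hvv := h.sqV _ hv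
    have e3 : x * (w * z) * x⁻¹ = w * z := by
      calc x * (w * z) * x⁻¹ = (x * w * x⁻¹) * (x * z * x⁻¹) := by group
        _ = (dl x w * w) * (dl x z * z) := by rw [conj_eq_dl, conj_eq_dl]
        _ = (dl x a * w) * (dl x a * z) := by rw [e1, e2]
        _ = (w * dl x a) * (dl x a * z) := by rw [hvw]
        _ = w * (dl x a * dl x a) * z := by group
        _ = w * z := by rw [hvv, mul_one]
    exact mul_inv_eq_iff_eq_mul.mp e3

/-- an element with values `p, q, r` on `U_p, U_q, U_r` inverts `W₀` -/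
theorem W0_conj_u {x : G} (hx : x ∈ h.toNTri.W0) :
    (q * (a * bb g a * cc g a)) * x * (q * (a * bb g a * cc g a))⁻¹ = x⁻¹ := by
  obtain ⟨u1, u2, u3⟩ := h.u_dl
  have hu := h.W_le_centV h.u_mem
  set u := q * (a * bb g a * cc g a) with hudef
  have hxx := h.W0_sq hx
  have hvd := h.dl_mem h.t.hp h.ha (h.W_le_centV hx.1)
  have hinv : x⁻¹ = dl x a * x := by
    have h4 : (dl x a * x) * x = 1 := by rw [mul_assoc, hxx, h.sqV _ hvd]
    exact (eq_inv_of_mul_eq_one_left h4).symm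
  have uv : ∀ p', Pt V p' → ∀ y ∈ U p', y ∉ V → dl u y = p' := by
    intro p' hp' y hy hyV
    rcases h.mem_V' h.t hp'.1 with rfl | rfl | rfl | rfl
    · exact absurd rfl hp'.2
    · rw [h.dl_const hp' hu h.ha h.haV hy hyV, u1]
    · rw [h.dl_const hp' hu h.Ub h.Vb hy hyV, u2]
    · rw [h.dl_const hp' hu h.Uc h.Vc hy hyV, u3]
  rw [hinv]
  rcases h.W0_form hx with h1 | ⟨p', q', r', t', ⟨y, hy, hyV, z, hz, hzV, rfl⟩, e⟩
  · rw [h.dl_V h.t.hp h.ha h1, one_mul, h.fix_of_centV hu h1]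
  · have hvy := h.vcomm t'.hq.1 (h.U_le_centV t'.hp hy)
    calc u * (y * z) * u⁻¹ = (u * y * u⁻¹) * (u * z * u⁻¹) := by group
      _ = (p' * y) * (q' * z) := by rw [conj_eq_dl, conj_eq_dl, uv p' t'.hp y hy hyV, uv q' t'.hq z hz hzV]
      _ = p' * (y * q') * z := by group
      _ = p' * q' * (y * z) := by rw [← hvy]; group
      _ = dl (y * z) a * (y * z) := by rw [t'.eq, e]

/-- an involution of `N_G(V) ∩ C_G(p)` inverting `g` -/
theorem exists_s : ∃ s ∈ normalizer (V : Set G), s * p * s⁻¹ = p ∧ s * q * s⁻¹ = r ∧ s * r * s⁻¹ = q ∧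
    s * g * s⁻¹ = g⁻¹ ∧ s * s = 1 := by
  obtain ⟨x, hx, -, hxp, hxq, hxr, hxx⟩ := h.exists_h h.t
  have hxN := hx.1
  obtain ⟨s, hsN, sp, sq, sr, sg⟩ := h.exists_s0
  have hsp' : s⁻¹ * p * s = p := by
    calc s⁻¹ * p * s = s⁻¹ * (s * p * s⁻¹) * s := by rw [sp]
      _ = p := by group
  have hsq' : s⁻¹ * q * s = r := by
    calc s⁻¹ * q * s = s⁻¹ * (s * r * s⁻¹) * s := by rw [sr]
      _ = r := by group
  have hd : x * s⁻¹ ∈ centralizer (V : Set G) := by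
    refine h.mem_centV_of_fix (mul_mem hxN (inv_mem hsN)) ?_ ?_
    · have e : x * s⁻¹ * p * (x * s⁻¹)⁻¹ = x * (s⁻¹ * p * s) * x⁻¹ := by group
      rw [e, hsp', hxp]
    · have e : x * s⁻¹ * q * (x * s⁻¹)⁻¹ = x * (s⁻¹ * q * s) * x⁻¹ := by group
      rw [e, hsq', hxr]
  obtain ⟨w, hw, e, he, hwe⟩ := h.exists_W0_E hd
  have heD := (mem_EE.mp he).1
  have heg := (mem_EE.mp he).2
  have hs1 : e * s = w⁻¹ * x := by
    have : x = w * e * s := by rw [← hwe]; group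
    rw [this]; group
  have efix : ∀ v ∈ V, e * v * e⁻¹ = v := fun v hv => h.fix_of_centV heD hv
  have sact : ∀ v : G, e * s * v * (e * s)⁻¹ = e * (s * v * s⁻¹) * e⁻¹ := fun v => by group
  have tp : e * s * p * (e * s)⁻¹ = p := by rw [sact, sp, efix p h.t.hp.1]
  have tq : e * s * q * (e * s)⁻¹ = r := by rw [sact, sq, efix r h.t.hr.1]
  have tr : e * s * r * (e * s)⁻¹ = q := by rw [sact, sr, efix q h.t.hq.1]
  have tg : e * s * g * (e * s)⁻¹ = g⁻¹ := by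
    rw [sact, sg]
    have : Commute e g⁻¹ := (show Commute e g from heg).inv_right
    rw [this.eq, mul_inv_cancel_right]
  have hN : e * s ∈ normalizer (V : Set G) := mul_mem (h.centV_le_norm heD) hsN
  refine ⟨e * s, hN, tp, tq, tr, tg, ?_⟩
  refine h.W0_inf_E ?_ (mem_EE.mpr ⟨?_, ?_⟩)
  · rw [hs1]
    have e1 : w⁻¹ * x * (w⁻¹ * x) = w⁻¹ * (x * w⁻¹ * x⁻¹) * (x * x) := by group
    rw [e1, hxx]
    exact mul_mem (mul_mem (inv_mem hw) (conj_mem_of_normalizer h.norm_W0 hxN (inv_mem hw)))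
      (h.V_le_W0 h.t.hp h.t.hp.1)
  · refine h.mem_centV_of_fix (mul_mem hN hN) ?_ ?_
    · have e1 : e * s * (e * s) * p * (e * s * (e * s))⁻¹ = (e * s) * ((e * s) * p * (e * s)⁻¹) * (e * s)⁻¹ := by
        group
      rw [e1, tp, tp]
    · have e1 : e * s * (e * s) * q * (e * s * (e * s))⁻¹ = (e * s) * ((e * s) * q * (e * s)⁻¹) * (e * s)⁻¹ := by
        group
      rw [e1, tq, tr]
  · have e1 : e * s * (e * s) * g * (e * s * (e * s))⁻¹ = g := by
      calc e * s * (e * s) * g * (e * s * (e * s))⁻¹ = (e * s) * ((e * s) * g * (e * s)⁻¹) * (e * s)⁻¹ := by group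
        _ = (e * s) * g⁻¹ * (e * s)⁻¹ := by rw [tg]
        _ = ((e * s) * g * (e * s)⁻¹)⁻¹ := by group
        _ = g := by rw [tg, inv_inv]
    exact mul_inv_eq_iff_eq_mul.mp e1

/-! ### cardinalities -/

/-- `E → V` -/
def phi : EE V g →* V where
  toFun e := ⟨dl e.1 a, h.dl_mem h.t.hp h.ha (mem_EE.mp e.2).1⟩
  map_one' := Subtype.ext (h.dl_one a)
  map_mul' e e' := Subtype.ext (h.dmul_a (mem_EE.mp e.2).1 (mem_EE.mp e'.2).1)

theorem phi_inj : Function.Injective (phi h) := fun e e' he =>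
  Subtype.ext (h.E_inj' e.2 e'.2 (congrArg Subtype.val he))

theorem card_E : Nat.card (EE V g) = 2 ∨ Nat.card (EE V g) = 4 := by
  have h1 := Subgroup.card_dvd_of_injective (phi h) (phi_inj h)
  rw [h.cardV] at h1
  have h2 : Nat.card (EE V g) ≠ 1 := by
    intro h3
    have h4 : EE V g = ⊥ := Subgroup.eq_bot_of_card_eq _ h3
    have h5 := h.u_E
    rw [h4, mem_bot] at h5
    exact h.u_ne h5
  have h3 : Nat.card (EE V g) ≤ 4 := Nat.le_of_dvd (by norm_num) h1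
  have h4 : 0 < Nat.card (EE V g) := Nat.card_pos
  interval_cases hn : Nat.card (EE V g)
  · exact absurd rfl h2
  · exact Or.inl rfl
  · omega
  · exact Or.inr rfl

theorem E_two (h2 : Nat.card (EE V g) = 2) {e : G} (he : e ∈ EE V g) :
    e = 1 ∨ e = q * (a * bb g a * cc g a) := by
  have hle : zpowers (q * (a * bb g a * cc g a)) ≤ EE V g := by rw [zpowers_le]; exact h.u_E
  have hc : Nat.card (zpowers (q * (a * bb g a * cc g a))) = 2 := by
    rw [Nat.card_zpowers]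
    exact orderOf_eq_prime (by rw [pow_two]; exact h.E_sq h.u_E) h.u_ne
  have heq := Subgroup.eq_of_le_of_card_ge hle (by rw [h2, hc])
  rw [← heq] at he
  exact (mem_zpowers_iff_of_mul_self (h.E_sq h.u_E)).mp he

theorem E_four (h4 : Nat.card (EE V g) = 4) : ∃ f ∈ EE V g, dl f a = q := by
  have hb : Function.Bijective (phi h) :=
    (Nat.bijective_iff_injective_and_card _).mpr ⟨phi_inj h, by rw [h4, h.cardV]⟩
  obtain ⟨f, hf⟩ := hb.2 ⟨q, h.t.hq.1⟩
  exact ⟨f.1, f.2, congrArg Subtype.val hf⟩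

theorem E_four' {f e : G} (hf : f ∈ EE V g) (hfq : dl f a = q) (he : e ∈ EE V g) :
    e = 1 ∨ e = q * (a * bb g a * cc g a) ∨ e = f ∨ e = f * (q * (a * bb g a * cc g a)) := by
  have hu := h.u_E
  have hu1 := h.u_dl.1
  rcases h.mem_V' h.t (h.dl_mem h.t.hp h.ha (mem_EE.mp he).1) with e1 | e1 | e1 | e1
  · exact Or.inl (h.E_inj he e1)
  · exact Or.inr (Or.inl (h.E_inj' he hu (e1.trans hu1.symm)))
  · exact Or.inr (Or.inr (Or.inl (h.E_inj' he hf (e1.trans hfq.symm))))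
  · refine Or.inr (Or.inr (Or.inr (h.E_inj' he (mul_mem hf hu) ?_)))
    rw [h.dmul_a (mem_EE.mp hf).1 (mem_EE.mp hu).1, hfq, hu1, e1, h.mqp]

/-- `W₀ → V` -/
def psi : h.toNTri.W0 →* V where
  toFun e := ⟨dl e.1 a, h.dl_mem h.t.hp h.ha (h.W_le_centV e.2.1)⟩
  map_one' := Subtype.ext (h.dl_one a)
  map_mul' e e' := Subtype.ext (h.dmul_a (h.W_le_centV e.2.1) (h.W_le_centV e'.2.1))

theorem ab_W0 : a * bb g a ∈ h.toNTri.W0 ∧ dl (a * bb g a) a = r := by
  have e1 : dl (a * bb g a) a = r := by rw [h.dmul_a h.Da h.Db, h.dl_self, h.ba, one_mul]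
  refine ⟨h.mem_W0' (v := r) (mul_mem h.Wa h.Wb) h.t.hr.1 e1 ?_ ?_, e1⟩
  · rw [h.dmul_b h.Da h.Db, h.dl_self, h.ab, mul_one]
  · rw [h.dmul_c h.Da h.Db, h.ac, h.bc, h.mqp]

theorem ca_W0 : cc g a * a ∈ h.toNTri.W0 ∧ dl (cc g a * a) a = q := by
  have e1 : dl (cc g a * a) a = q := by rw [h.dmul_a h.Dc h.Da, h.dl_self, h.ca, mul_one]
  refine ⟨h.mem_W0' (v := q) (mul_mem h.Wc h.Wa) h.t.hq.1 e1 ?_ ?_, e1⟩
  · rw [h.dmul_b h.Dc h.Da, h.cb, h.ab, h.mpr]
  · rw [h.dmul_c h.Dc h.Da, h.dl_self, h.ac, one_mul]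

theorem card_W0 : Nat.card (h.toNTri.W0) = 16 := by
  have hs : Function.Surjective (psi h) := by
    rintro ⟨v, hv⟩
    rcases h.mem_V' h.t hv with rfl | rfl | rfl | rfl
    · exact ⟨1, Subtype.ext (h.dl_one a)⟩
    · refine ⟨⟨_, mul_mem h.ca_W0.1 h.ab_W0.1⟩, Subtype.ext ?_⟩
      change dl (cc g a * a * (a * bb g a)) a = _
      rw [h.dmul_a (h.W_le_centV h.ca_W0.1.1) (h.W_le_centV h.ab_W0.1.1), h.ca_W0.2, h.ab_W0.2, h.mqr]
    · exact ⟨⟨_, h.ca_W0.1⟩, Subtype.ext h.ca_W0.2⟩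
    · exact ⟨⟨_, h.ab_W0.1⟩, Subtype.ext h.ab_W0.2⟩
  have hk : (psi h).ker = V.subgroupOf (h.toNTri.W0) := by
    ext x
    rw [MonoidHom.mem_ker, mem_subgroupOf]
    constructor
    · intro e
      have e1 : dl x.1 a = 1 := congrArg Subtype.val e
      have hx := x.2
      exact h.mem_V_of_dl (h.W_le_centV hx.1) e1 ((h.W0_val hx h.t.hq h.Ub h.Vb).trans e1)
        ((h.W0_val hx h.t.hr h.Uc h.Vc).trans e1)
    · intro e
      exact Subtype.ext (h.dl_V h.t.hp h.ha e)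
  have hk4 : Nat.card (psi h).ker = 4 := by
    rw [hk, ← h.cardV]
    exact Nat.card_congr (subgroupOfEquivOfLe (h.V_le_W0 h.t.hp)).toEquiv
  have h1 := Subgroup.card_eq_card_quotient_mul_card_subgroup (psi h).ker
  rw [hk4, Nat.card_congr (QuotientGroup.quotientKerEquivOfSurjective _ hs).toEquiv, h.cardV] at h1
  exact h1

theorem card_D : Nat.card (centralizer (V : Set G)) = 16 * Nat.card (EE V g) := by
  have hE : EE V g ≤ centralizer (V : Set G) := inf_le_left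
  have hW : h.toNTri.W0 ≤ centralizer (V : Set G) := h.W0_le.trans h.W_le_centV
  have h1 : EE V g ⊔ h.toNTri.W0 = centralizer (V : Set G) := by
    apply le_antisymm (sup_le hE hW)
    intro d hd
    obtain ⟨w, hw, e, he, rfl⟩ := h.exists_W0_E hd
    exact mul_mem ((le_sup_right : _ ≤ EE V g ⊔ h.toNTri.W0) hw) ((le_sup_left : _ ≤ EE V g ⊔ h.toNTri.W0) he)
  have h2 : EE V g ⊓ h.toNTri.W0 = ⊥ := by
    rw [eq_bot_iff]
    rintro x ⟨hx1, hx2⟩
    exact mem_bot.mpr (h.W0_inf_E hx2 hx1)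
  have h3 := card_sup_mul_card_inf (H := EE V g) (N := h.toNTri.W0)
    (hE.trans (h.centV_le_norm.trans h.norm_W0))
  rw [h1, h2, Subgroup.card_bot, mul_one, h.card_W0] at h3
  rw [h3, mul_comm]

/-- the subgroup `S = N_G(V) ∩ C_G(p)` -/
theorem S_le {s : G} (hsN : s ∈ normalizer (V : Set G)) (hsp : s * p * s⁻¹ = p) (hsr : s * r * s⁻¹ = q)
    {X : Subgroup G} (hD : centralizer (V : Set G) ≤ X) (hs : s ∈ X) :
    normalizer (V : Set G) ⊓ centralizer ({p} : Set G) ≤ X := by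
  rintro n ⟨hnN, hnp⟩
  have hnp' : n * p * n⁻¹ = p := by rw [mem_centralizer_singleton_iff.mp hnp, mul_inv_cancel_right]
  rcases h.fix_or_swap h.t hnN hnp' with ⟨h1, -, -⟩ | ⟨h1, h2⟩
  · exact hD h1
  · have hsp' : s⁻¹ * p * s = p := by
      calc s⁻¹ * p * s = s⁻¹ * (s * p * s⁻¹) * s := by rw [hsp]
        _ = p := by group
    have hsq' : s⁻¹ * q * s = r := by
      calc s⁻¹ * q * s = s⁻¹ * (s * r * s⁻¹) * s := by rw [hsr]
        _ = r := by group
    have h3 : n * s⁻¹ ∈ centralizer (V : Set G) := by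
      refine h.mem_centV_of_fix (mul_mem hnN (inv_mem hsN)) ?_ ?_
      · have e : n * s⁻¹ * p * (n * s⁻¹)⁻¹ = n * (s⁻¹ * p * s) * n⁻¹ := by group
        rw [e, hsp', hnp']
      · have e : n * s⁻¹ * q * (n * s⁻¹)⁻¹ = n * (s⁻¹ * q * s) * n⁻¹ := by group
        rw [e, hsq', h2]
    have e : n = (n * s⁻¹) * s := by group
    rw [e]
    exact mul_mem (hD h3) hs

theorem D_le_S : centralizer (V : Set G) ≤ normalizer (V : Set G) ⊓ centralizer ({p} : Set G) :=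
  le_inf h.centV_le_norm fun _ hd => mem_centralizer_singleton_iff.mpr (h.vcomm h.t.hp.1 hd).symm

theorem card_S : Nat.card (normalizer (V : Set G) ⊓ centralizer ({p} : Set G) : Subgroup G) =
    32 * Nat.card (EE V g) := by
  obtain ⟨s, hsN, sp, sq, sr, -, ss⟩ := h.exists_s
  have hsS : s ∈ normalizer (V : Set G) ⊓ centralizer ({p} : Set G) :=
    mem_inf.mpr ⟨hsN, mem_centralizer_singleton_iff.mpr (mul_inv_eq_iff_eq_mul.mp sp)⟩
  have hsD : s ∉ centralizer (V : Set G) := by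
    intro e
    have h1 := h.fix_of_centV e h.t.hq.1
    rw [h1] at sq
    exact h.t.nqr sq
  have hs1 : s ≠ 1 := fun e => hsD (by rw [e]; exact one_mem _)
  have h1 : zpowers s ⊔ centralizer (V : Set G) = normalizer (V : Set G) ⊓ centralizer ({p} : Set G) := by
    apply le_antisymm (sup_le (by rw [zpowers_le]; exact hsS) h.D_le_S)
    exact h.S_le hsN sp sr le_sup_right ((le_sup_left : zpowers s ≤ _) (mem_zpowers s))
  have h2 : zpowers s ⊓ centralizer (V : Set G) = ⊥ := by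
    rw [eq_bot_iff]
    rintro x ⟨hx1, hx2⟩
    rcases (mem_zpowers_iff_of_mul_self ss).mp hx1 with e | e
    · exact mem_bot.mpr e
    · rw [e] at hx2; exact absurd hx2 hsD
  have h3 := card_sup_mul_card_inf (H := zpowers s) (N := centralizer (V : Set G))
    (by rw [zpowers_le]; exact h.centV_norm hsN)
  have h4 : Nat.card (zpowers s) = 2 := by
    rw [Nat.card_zpowers]; exact orderOf_eq_prime (by rw [pow_two]; exact ss) hs1
  rw [h1, h2, Subgroup.card_bot, mul_one, h4, h.card_D] at h3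
  rw [h3]; ring

end Fin

end Fr

end Cfsg.Agent.Omega.NO3S.Fit.MTri
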